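import Mathlib

/-!
Core lemmas on tensor products with finitely presented modules and products:
lifting of vanishing to a finitely presented module, `piRightHom` for finite / finitely
presented modules.
-/

namespace Groth.Agent.CAlgML

open TensorProduct

universe u

variable {R : Type u} [CommRing R]

section Lift

variable {M N Q : Type u} [AddCommGroup M] [Module R M] [AddCommGroup N] [Module R N]
  [AddCommGroup Q] [Module R Q]

/-- An element of `ker (f ⊗ Q)` comes from `ker (f ⊗ Q')` for some finitely presented `Q' → Q`. -/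
theorem exists_finitePresentation_lift (f : M →ₗ[R] N) (x : M ⊗[R] Q) (hx : f.rTensor Q x = 0) :
    ∃ (Q' : Type u) (_ : AddCommGroup Q') (_ : Module R Q') (_ : Module.FinitePresentation R Q')
      (h : Q' →ₗ[R] Q) (x' : M ⊗[R] Q'), h.lTensor M x' = x ∧ f.rTensor Q' x' = 0 := by
  classical
  obtain ⟨k, m, q, rfl⟩ := TensorProduct.exists_sum_tmul_eq x
  let Φ : (Q →₀ R) →ₗ[R] Q := Finsupp.linearCombination R (id : Q → Q)
  let z : N ⊗[R] (Q →₀ R) := ∑ j, f (m j) ⊗ₜ Finsupp.single (q j) 1
  have hΦ : Function.Surjective Φ := fun a => ⟨Finsupp.single a 1, by simp [Φ]⟩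
  have hz : Φ.lTensor N z = 0 := by
    rw [← hx]
    simp [z, Φ, map_sum]
  obtain ⟨w, hw⟩ := ((lTensor_exact N (M := LinearMap.ker Φ) (LinearMap.exact_subtype_ker_map Φ) hΦ) z).1 hz
  obtain ⟨l, n, c, rfl⟩ := TensorProduct.exists_sum_tmul_eq w
  let S : Finset Q := Finset.univ.image q ∪ Finset.univ.biUnion fun j => (c j : Q →₀ R).support
  let r : (Q →₀ R) →ₗ[R] (S → R) := LinearMap.pi fun s => Finsupp.lapply (s : Q)
  let hS : (S → R) →ₗ[R] Q := Fintype.linearCombination R fun s : S => (s : Q)
  have hr : ∀ v : Q →₀ R, v.support ⊆ S → hS (r v) = Φ v := by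
    intro v hv
    simp only [hS, r, Φ, Fintype.linearCombination_apply, LinearMap.pi_apply, Finsupp.lapply_apply,
      Finsupp.linearCombination_apply, id]
    rw [Finsupp.sum_of_support_subset v hv (fun a b => b • a) (fun a _ => zero_smul R a)]
    exact Finset.sum_coe_sort S fun a => v a • a
  let K : Submodule R (S → R) := Submodule.span R (Set.range fun j => r (c j))
  have hK : K ≤ LinearMap.ker hS := by
    rw [Submodule.span_le]
    rintro _ ⟨j, rfl⟩
    rw [SetLike.mem_coe, LinearMap.mem_ker, hr]
    · exact (c j).2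
    · intro a ha
      exact Finset.mem_union_right _ (Finset.mem_biUnion.2 ⟨j, Finset.mem_univ _, ha⟩)
  have hFP : Module.FinitePresentation R ((S → R) ⧸ K) :=
    Module.finitePresentation_of_surjective K.mkQ K.mkQ_surjective
      (by rw [Submodule.ker_mkQ]; exact Submodule.fg_span (Set.finite_range _))
  refine ⟨(S → R) ⧸ K, inferInstance, inferInstance, hFP, K.liftQ hS hK,
    ∑ j, m j ⊗ₜ K.mkQ (r (Finsupp.single (q j) 1)), ?_, ?_⟩
  · simp only [map_sum, LinearMap.lTensor_tmul, Submodule.mkQ_apply, Submodule.liftQ_apply]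
    refine Finset.sum_congr rfl fun j _ => ?_
    rw [hr]
    · simp [Φ]
    · intro a ha
      rw [Finset.mem_singleton.1 (Finsupp.support_single_subset ha)]
      exact Finset.mem_union_left _ (Finset.mem_image_of_mem q (Finset.mem_univ j))
  · calc f.rTensor _ (∑ j, m j ⊗ₜ[R] K.mkQ (r (Finsupp.single (q j) 1)))
        = (K.mkQ ∘ₗ r).lTensor N z := by simp [z, map_sum]
      _ = (K.mkQ ∘ₗ r).lTensor N ((LinearMap.ker Φ).subtype.lTensor N (∑ j, n j ⊗ₜ c j)) := by rw [hw]
      _ = 0 := by
        simp only [map_sum, LinearMap.lTensor_tmul, LinearMap.comp_apply, Submodule.coe_subtype]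
        refine Finset.sum_eq_zero fun j _ => ?_
        rw [Submodule.mkQ_apply, (Submodule.Quotient.mk_eq_zero K).2 (Submodule.subset_span ⟨j, rfl⟩),
          tmul_zero]

end Lift

section Coord

variable {Q Q' : Type u} [AddCommGroup Q] [Module R Q] [AddCommGroup Q'] [Module R Q'] {n : ℕ}

/-- The `k`-th coordinate of an element of `Rⁿ ⊗ Q`. -/
noncomputable def coord (k : Fin n) : (Fin n → R) ⊗[R] Q →ₗ[R] Q :=
  (TensorProduct.lid R Q).toLinearMap ∘ₗ (LinearMap.proj (R := R) (φ := fun _ : Fin n => R) k).rTensor Q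

@[simp] theorem coord_tmul (k : Fin n) (v : Fin n → R) (q : Q) : coord k (v ⊗ₜ[R] q) = v k • q := by
  simp [coord]

theorem sum_single_tmul_coord (z : (Fin n → R) ⊗[R] Q) :
    ∑ k, (Pi.single k 1 : Fin n → R) ⊗ₜ[R] coord k z = z := by
  classical
  induction z with
  | zero => simp
  | add a b ha hb => simp [tmul_add, Finset.sum_add_distrib, ha, hb]
  | tmul v q =>
    simp only [coord_tmul, tmul_smul, smul_tmul', ← sum_tmul]
    congr 1
    exact (pi_eq_sum_univ' v).symm

theorem coord_lTensor (k : Fin n) (h : Q →ₗ[R] Q') (z : (Fin n → R) ⊗[R] Q) :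
    coord k (h.lTensor _ z) = h (coord k z) := by
  induction z with
  | zero => simp
  | add a b ha hb => simp [ha, hb]
  | tmul v q => simp

end Coord

section Factor

variable {P M Q : Type u} [AddCommGroup P] [Module R P] [AddCommGroup M] [Module R M]
  [AddCommGroup Q] [Module R Q]

/-- If `P` is finitely presented and `(f ⊗ Q) x = 0` then `f` factors through a finitely presented
module in which `x` already dies. -/
theorem exists_factor_rTensor_eq_zero [Module.FinitePresentation R P] (f : P →ₗ[R] M)
    (x : P ⊗[R] Q) (hx : f.rTensor Q x = 0) :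
    ∃ (P' : Type u) (_ : AddCommGroup P') (_ : Module R P') (_ : Module.FinitePresentation R P')
      (f' : P →ₗ[R] P') (h : P' →ₗ[R] M), f = h ∘ₗ f' ∧ f'.rTensor Q x = 0 := by
  classical
  obtain ⟨k, p, q, rfl⟩ := TensorProduct.exists_sum_tmul_eq x
  let f₀ : (Fin k → R) →ₗ[R] Q := Fintype.linearCombination R q
  let X : (Fin k → R) ⊗[R] M := ∑ j, Pi.single j 1 ⊗ₜ f (p j)
  have hX : f₀.rTensor M X = 0 := by
    have := congrArg (TensorProduct.comm R M Q) hx
    rw [map_zero] at this
    rw [← this]
    simp [X, f₀, map_sum, Fintype.linearCombination_apply_single]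
  obtain ⟨M', _, _, _, h, X', hh, h0⟩ := exists_finitePresentation_lift f₀ X hX
  let m' : Fin k → M' := fun j => coord j X'
  have hm : ∀ j, h (m' j) = f (p j) := by
    intro j
    rw [← coord_lTensor, hh]
    simp [X, map_sum, Pi.single_apply, ite_smul]
  have h0' : ∑ j, m' j ⊗ₜ[R] q j = 0 := by
    rw [← sum_single_tmul_coord X'] at h0
    have := congrArg (TensorProduct.comm R Q M') h0
    rw [map_zero] at this
    rw [← this]
    simp [m', f₀, map_sum, Fintype.linearCombination_apply_single]
  let K : Submodule R (P × M') := Submodule.span R (Set.range fun j => (p j, -m' j))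
  have hK : K ≤ LinearMap.ker (f.coprod h) := by
    rw [Submodule.span_le]
    rintro _ ⟨j, rfl⟩
    simp [hm]
  have hFP : Module.FinitePresentation R ((P × M') ⧸ K) :=
    Module.finitePresentation_of_surjective K.mkQ K.mkQ_surjective
      (by rw [Submodule.ker_mkQ]; exact Submodule.fg_span (Set.finite_range _))
  refine ⟨(P × M') ⧸ K, inferInstance, inferInstance, hFP, K.mkQ ∘ₗ LinearMap.inl R P M',
    K.liftQ _ hK, LinearMap.ext fun a => by simp, ?_⟩
  calc (K.mkQ ∘ₗ LinearMap.inl R P M').rTensor Q (∑ j, p j ⊗ₜ[R] q j)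
      = (K.mkQ ∘ₗ LinearMap.inr R P M').rTensor Q (∑ j, m' j ⊗ₜ[R] q j) := by
        simp only [map_sum, LinearMap.rTensor_tmul, LinearMap.comp_apply, LinearMap.inl_apply,
          LinearMap.inr_apply, Submodule.mkQ_apply]
        refine Finset.sum_congr rfl fun j _ => ?_
        congr 1
        rw [Submodule.Quotient.eq]
        exact Submodule.subset_span ⟨j, by simp⟩
    _ = 0 := by rw [h0', map_zero]

end Factor

section Pi

variable {ι : Type u} {Q : ι → Type u} [∀ i, AddCommGroup (Q i)] [∀ i, Module R (Q i)]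
variable {M N : Type u} [AddCommGroup M] [Module R M] [AddCommGroup N] [Module R N]

theorem piRightHom_apply' (x : M ⊗[R] (∀ i, Q i)) (i : ι) :
    piRightHom R R M Q x i = (LinearMap.proj (R := R) (φ := Q) i).lTensor M x := by
  induction x with
  | zero => simp
  | add a b ha hb => simp [ha, hb]
  | tmul m q => simp

theorem piRightHom_rTensor (f : M →ₗ[R] N) (x : M ⊗[R] (∀ i, Q i)) (i : ι) :
    piRightHom R R N Q (f.rTensor _ x) i = f.rTensor (Q i) (piRightHom R R M Q x i) := by
  induction x with
  | zero => simp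
  | add a b ha hb => simp [ha, hb]
  | tmul m q => simp

theorem piRightHom_bijective_fun (n : ℕ) :
    Function.Bijective (piRightHom R R (Fin n → R) Q) := by
  classical
  refine ⟨fun x y hxy => ?_, fun y => ?_⟩
  · rw [← sum_single_tmul_coord x, ← sum_single_tmul_coord y]
    refine Finset.sum_congr rfl fun k _ => ?_
    congr 1
    funext i
    have h1 : ∀ x : (Fin n → R) ⊗[R] (∀ i, Q i),
        coord (Q := ∀ i, Q i) k x i = coord k (piRightHom R R (Fin n → R) Q x i) := by
      intro x
      rw [piRightHom_apply', coord_lTensor]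
      rfl
    rw [h1, h1, hxy]
  · refine ⟨∑ k, Pi.single k 1 ⊗ₜ fun i => coord k (y i), funext fun i => ?_⟩
    rw [map_sum, Finset.sum_apply]
    simpa using sum_single_tmul_coord (y i)

theorem piRightHom_surjective_of_finite [Module.Finite R M] :
    Function.Surjective (piRightHom R R M Q) := by
  intro y
  obtain ⟨n, g, hg⟩ := Module.Finite.exists_fin' R M
  choose y' hy' using fun i => LinearMap.rTensor_surjective (Q i) hg (y i)
  obtain ⟨x, hx⟩ := (piRightHom_bijective_fun n).2 y'
  exact ⟨g.rTensor _ x, funext fun i => by rw [piRightHom_rTensor, hx, hy']⟩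

/-- Injectivity of `piRightHom` passes to cokernels of maps from finite modules. -/
theorem piRightHom_injective_of_exact {A : Type u} [AddCommGroup A] [Module R A] [Module.Finite R A]
    (f : A →ₗ[R] M) (g : M →ₗ[R] N) (hfg : Function.Exact f g) (hg : Function.Surjective g)
    (hM : Function.Injective (piRightHom R R M Q)) : Function.Injective (piRightHom R R N Q) := by
  refine (injective_iff_map_eq_zero _).2 fun x hx => ?_
  obtain ⟨x₁, rfl⟩ := LinearMap.rTensor_surjective (∀ i, Q i) hg x
  have : ∀ i, ∃ w, f.rTensor (Q i) w = piRightHom R R M Q x₁ i := fun i =>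
    ((rTensor_exact (Q i) hfg hg) _).1 (by rw [← piRightHom_rTensor, hx]; rfl)
  choose w hw using this
  obtain ⟨v, hv⟩ := piRightHom_surjective_of_finite (M := A) w
  have : x₁ = f.rTensor _ v := hM (funext fun i => by rw [piRightHom_rTensor, hv, hw])
  rw [this]
  exact (rTensor_exact (∀ i, Q i) hfg hg).apply_apply_eq_zero v

theorem piRightHom_bijective_of_finitePresentation [Module.FinitePresentation R M] :
    Function.Bijective (piRightHom R R M Q) := by
  obtain ⟨n, K, e, hK⟩ := Module.FinitePresentation.exists_fin R M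
  haveI : Module.Finite R K := Module.Finite.iff_fg.2 hK
  refine ⟨piRightHom_injective_of_exact K.subtype (e.symm.toLinearMap ∘ₗ K.mkQ) ?_
    (e.symm.surjective.comp K.mkQ_surjective) (piRightHom_bijective_fun n).1,
    piRightHom_surjective_of_finite⟩
  intro v
  simp

end Pi

end Groth.Agent.CAlgML
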