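import Mathlib
import Groth.Prelude.Def_CAlgX
import Groth.Agent.CAlgML.Core

/-!
Universally injective maps.
-/

namespace Groth.Agent.CAlgML

open TensorProduct CAlgX

universe u

variable {R : Type u} [CommRing R] {M₁ M₂ M₃ : Type u} [AddCommGroup M₁] [Module R M₁]
  [AddCommGroup M₂] [Module R M₂] [AddCommGroup M₃] [Module R M₃]

theorem universallyInjective_iff_finitePresentation (f : M₁ →ₗ[R] M₂) :
    UniversallyInjective R f ↔ ∀ (Q : Type u) [AddCommGroup Q] [Module R Q],
      Module.FinitePresentation R Q → Function.Injective (f.rTensor Q) := by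
  refine ⟨fun h Q _ _ _ => h Q, fun H Q _ _ => (injective_iff_map_eq_zero _).2 fun x hx => ?_⟩
  obtain ⟨Q', _, _, _, h, x', rfl, hx'⟩ := exists_finitePresentation_lift f x hx
  rw [H Q' inferInstance (hx'.trans (map_zero _).symm), map_zero]

theorem universallyInjective_of_flat_coker (f : M₁ →ₗ[R] M₂) (g : M₂ →ₗ[R] M₃)
    (hf : Function.Injective f) (hfg : Function.Exact f g) (hg : Function.Surjective g)
    [Module.Flat R M₃] : UniversallyInjective R f := by
  intro Q _ _
  let π : (Q →₀ R) →ₗ[R] Q := Finsupp.linearCombination R (id : Q → Q)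
  have hπ : Function.Surjective π := fun q => ⟨Finsupp.single q 1, by simp [π]⟩
  have hex := LinearMap.exact_subtype_ker_map π
  refine (injective_iff_map_eq_zero _).2 fun y hy => ?_
  obtain ⟨y', rfl⟩ := LinearMap.lTensor_surjective M₁ hπ y
  rw [← LinearMap.comp_apply, LinearMap.rTensor_comp_lTensor, ← LinearMap.lTensor_comp_rTensor,
    LinearMap.comp_apply] at hy
  obtain ⟨w, hw⟩ := (lTensor_exact M₂ (M := LinearMap.ker π) hex hπ _).1 hy
  have hgw : g.rTensor (LinearMap.ker π) w = 0 := by
    apply Module.Flat.lTensor_preserves_injective_linearMap (M := M₃) (LinearMap.ker π).subtype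
      Subtype.val_injective
    rw [map_zero, ← LinearMap.comp_apply, LinearMap.lTensor_comp_rTensor,
      ← LinearMap.rTensor_comp_lTensor, LinearMap.comp_apply, hw, ← LinearMap.rTensor_comp_apply,
      hfg.linearMap_comp_eq_zero, LinearMap.rTensor_zero, LinearMap.zero_apply]
  obtain ⟨w', rfl⟩ := (rTensor_exact (LinearMap.ker π) hfg hg w).1 hgw
  have : y' = (LinearMap.ker π).subtype.lTensor M₁ w' := by
    apply Module.Flat.rTensor_preserves_injective_linearMap (M := Q →₀ R) f hf
    rw [← hw, ← LinearMap.comp_apply, LinearMap.lTensor_comp_rTensor,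
      ← LinearMap.rTensor_comp_lTensor, LinearMap.comp_apply]
  rw [this, ← LinearMap.lTensor_comp_apply, hex.linearMap_comp_eq_zero, LinearMap.lTensor_zero,
    LinearMap.zero_apply]

theorem flat_coker_of_injective_quotient (f : M₁ →ₗ[R] M₂) (g : M₂ →ₗ[R] M₃)
    (hfg : Function.Exact f g) (hg : Function.Surjective g) [Module.Flat R M₂]
    (H : ∀ I : Ideal R, I.FG → Function.Injective (f.rTensor (R ⧸ I))) : Module.Flat R M₃ := by
  refine Module.Flat.iff_lTensor_injective.2 fun I hI => (injective_iff_map_eq_zero _).2 fun y hy => ?_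
  obtain ⟨w, rfl⟩ := LinearMap.rTensor_surjective I hg y
  rw [← LinearMap.comp_apply, LinearMap.lTensor_comp_rTensor, ← LinearMap.rTensor_comp_lTensor,
    LinearMap.comp_apply] at hy
  obtain ⟨v, hv⟩ := (rTensor_exact R hfg hg _).1 hy
  have hexI : Function.Exact (Submodule.subtype I) (Submodule.mkQ I) := LinearMap.exact_subtype_mkQ I
  have hv0 : (Submodule.mkQ I).lTensor M₁ v = 0 := by
    apply H I hI
    rw [map_zero, ← LinearMap.comp_apply, LinearMap.rTensor_comp_lTensor,
      ← LinearMap.lTensor_comp_rTensor, LinearMap.comp_apply, hv, ← LinearMap.lTensor_comp_apply,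
      hexI.linearMap_comp_eq_zero, LinearMap.lTensor_zero, LinearMap.zero_apply]
  obtain ⟨v', rfl⟩ := (lTensor_exact M₁ hexI (Submodule.mkQ_surjective I) v).1 hv0
  have : w = f.rTensor I v' := by
    apply Module.Flat.lTensor_preserves_injective_linearMap (M := M₂) (Submodule.subtype I)
      Subtype.val_injective
    rw [← hv, ← LinearMap.comp_apply, LinearMap.rTensor_comp_lTensor,
      ← LinearMap.lTensor_comp_rTensor, LinearMap.comp_apply]
  rw [this, ← LinearMap.rTensor_comp_apply, hfg.linearMap_comp_eq_zero, LinearMap.rTensor_zero,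
    LinearMap.zero_apply]

theorem flat_of_universallyInjective_presentation {F K : Type u} [AddCommGroup F] [Module R F]
    [Module.Flat R F] [AddCommGroup K] [Module R K] (ι : K →ₗ[R] F) (π : F →ₗ[R] M₃)
    (hex : Function.Exact ι π) (hπ : Function.Surjective π) (h : UniversallyInjective R ι) :
    Module.Flat R M₃ :=
  flat_coker_of_injective_quotient ι π hex hπ fun I _ => h (R ⧸ I)

theorem flat_iff_universallyInjective : Module.Flat R M₃ ↔ ∀ (A B : Type u) [AddCommGroup A]
    [Module R A] [AddCommGroup B] [Module R B] (f : A →ₗ[R] B) (g : B →ₗ[R] M₃),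
    Function.Injective f → Function.Exact f g → Function.Surjective g → UniversallyInjective R f := by
  refine ⟨fun _ A B _ _ _ _ f g hf hfg hg => universallyInjective_of_flat_coker f g hf hfg hg, fun H => ?_⟩
  obtain ⟨F, _, _, _, π, hπ⟩ : ∃ (F : Type u) (_ : AddCommGroup F) (_ : Module R F)
      (_ : Module.Flat R F) (π : F →ₗ[R] M₃), Function.Surjective π :=
    ⟨M₃ →₀ R, inferInstance, inferInstance, inferInstance,
      Finsupp.linearCombination R (id : M₃ → M₃), fun q => ⟨Finsupp.single q 1, by simp⟩⟩
  obtain ⟨K, _, _, ι, hι, hex⟩ : ∃ (K : Type u) (_ : AddCommGroup K) (_ : Module R K)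
      (ι : K →ₗ[R] F), Function.Injective ι ∧ Function.Exact ι π :=
    ⟨LinearMap.ker π, inferInstance, inferInstance, (LinearMap.ker π).subtype,
      Subtype.val_injective, LinearMap.exact_subtype_ker_map π⟩
  exact flat_of_universallyInjective_presentation ι π hex hπ (H K F ι π hι hex hπ)

theorem flat_left_of_universallyInjective (f : M₁ →ₗ[R] M₂) (hf : UniversallyInjective R f)
    [Module.Flat R M₂] : Module.Flat R M₁ := by
  refine Module.Flat.iff_lTensor_injective.2 fun I _ => (injective_iff_map_eq_zero _).2 fun y hy => ?_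
  apply hf I
  rw [map_zero]
  apply Module.Flat.lTensor_preserves_injective_linearMap (M := M₂) (Submodule.subtype I)
      Subtype.val_injective
  rw [map_zero, ← LinearMap.comp_apply, LinearMap.lTensor_comp_rTensor,
    ← LinearMap.rTensor_comp_lTensor, LinearMap.comp_apply, hy, map_zero]

theorem universallyInjective_iff_equations (f : M₁ →ₗ[R] M₂) :
    UniversallyInjective R f ↔
      ∀ (n m : ℕ) (x : Fin n → M₁) (y : Fin m → M₂) (a : Fin n → Fin m → R),
        (∀ i, f (x i) = ∑ j, a i j • y j) → ∃ z : Fin m → M₁, ∀ i, x i = ∑ j, a i j • z j := by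
  classical
  constructor
  · intro hf n m x y a hxy
    let T : (Fin m → R) →ₗ[R] (Fin n → R) := Fintype.linearCombination R fun j i => a i j
    let c : M₁ ⊗[R] (Fin n → R) := ∑ i, x i ⊗ₜ Pi.single i 1
    have h0 : (LinearMap.range T).mkQ.lTensor M₁ c = 0 := by
      apply hf
      rw [map_zero, ← LinearMap.comp_apply, LinearMap.rTensor_comp_lTensor,
        ← LinearMap.lTensor_comp_rTensor, LinearMap.comp_apply]
      have : f.rTensor (Fin n → R) c = T.lTensor M₂ (∑ j, y j ⊗ₜ Pi.single j 1) := by
        simp only [c, T, map_sum, LinearMap.rTensor_tmul, LinearMap.lTensor_tmul, hxy, sum_tmul,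
          Fintype.linearCombination_apply_single, one_smul]
        rw [Finset.sum_comm]
        refine Finset.sum_congr rfl fun j _ => ?_
        simp only [← tmul_smul, smul_tmul, ← tmul_sum]
        congr 1
        exact (pi_eq_sum_univ' (fun i => a i j)).symm
      rw [this, ← LinearMap.lTensor_comp_apply,
        (LinearMap.exact_map_mkQ_range T).linearMap_comp_eq_zero, LinearMap.lTensor_zero,
        LinearMap.zero_apply]
    obtain ⟨w, hw⟩ := (lTensor_exact M₁ (LinearMap.exact_map_mkQ_range T) (Submodule.mkQ_surjective _) c).1 h0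
    refine ⟨fun j => TensorProduct.piScalarRight R R M₁ (Fin m) w j, fun i => ?_⟩
    have h1 : ∀ w : M₁ ⊗[R] (Fin m → R), TensorProduct.piScalarRight R R M₁ (Fin n) (T.lTensor M₁ w) i =
        ∑ j, a i j • TensorProduct.piScalarRight R R M₁ (Fin m) w j := fun w => by
      induction w with
      | zero => simp
      | add u v hu hv => simp only [map_add, Pi.add_apply, hu, hv, smul_add, Finset.sum_add_distrib]
      | tmul u v => simp [T, Fintype.linearCombination_apply, Finset.sum_smul, smul_smul, mul_comm]
    rw [← h1, hw]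
    simp [c, map_sum, Finset.sum_apply, Pi.single_apply, ite_smul]
  · intro H
    rw [universallyInjective_iff_finitePresentation]
    intro Q _ _ hQ
    obtain ⟨n, m, π, T, hπ, hT⟩ := Module.FinitePresentation.exists_fin' R Q
    refine (injective_iff_map_eq_zero _).2 fun y hy => ?_
    obtain ⟨c, rfl⟩ := LinearMap.lTensor_surjective M₁ hπ y
    rw [← LinearMap.comp_apply, LinearMap.rTensor_comp_lTensor, ← LinearMap.lTensor_comp_rTensor,
      LinearMap.comp_apply] at hy
    obtain ⟨w, hw⟩ := (lTensor_exact M₂ hT hπ _).1 hy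
    let X := TensorProduct.piScalarRight R R M₁ (Fin n) c
    let Y := TensorProduct.piScalarRight R R M₂ (Fin m) w
    let A : Fin n → Fin m → R := fun i j => T (Pi.single j 1) i
    have hTv : ∀ v i, T v i = ∑ j, v j * A i j := fun v i => by
      conv_lhs => rw [pi_eq_sum_univ' v]
      simp [A, map_sum, Finset.sum_apply]
    have h1 : ∀ {M : Type u} [AddCommGroup M] [Module R M] (w : M ⊗[R] (Fin m → R)) (i : Fin n),
        TensorProduct.piScalarRight R R M (Fin n) (T.lTensor M w) i =
        ∑ j, A i j • TensorProduct.piScalarRight R R M (Fin m) w j := fun w i => by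
      induction w with
      | zero => simp
      | add u v hu hv => simp only [map_add, Pi.add_apply, hu, hv, smul_add, Finset.sum_add_distrib]
      | tmul u v => simp [hTv, Finset.sum_smul, smul_smul, mul_comm]
    have h2 : ∀ (c : M₁ ⊗[R] (Fin n → R)) (i : Fin n),
        TensorProduct.piScalarRight R R M₂ (Fin n) (f.rTensor _ c) i =
          f (TensorProduct.piScalarRight R R M₁ (Fin n) c i) := fun c i => by
      induction c with
      | zero => simp
      | add u v hu hv => simp only [map_add, Pi.add_apply, hu, hv]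
      | tmul u v => simp
    obtain ⟨z, hz⟩ := H n m X Y A (fun i => by rw [← h2, ← hw, h1])
    have : c = T.lTensor M₁ ((TensorProduct.piScalarRight R R M₁ (Fin m)).symm z) := by
      apply (TensorProduct.piScalarRight R R M₁ (Fin n)).injective
      funext i
      rw [h1, LinearEquiv.apply_symm_apply]
      exact hz i
    rw [this, ← LinearMap.lTensor_comp_apply, hT.linearMap_comp_eq_zero, LinearMap.lTensor_zero,
      LinearMap.zero_apply]

end Groth.Agent.CAlgML
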