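import Mathlib
import Groth.Prelude.Def_Found

/-!
Kaplansky's theorem: a direct summand of a direct sum of countably generated modules is a direct sum
of countably generated modules.
-/

namespace Groth.Agent.CAlgML

open CAlg

universe u

section

variable {R : Type u} [CommRing R] {M : Type u} [AddCommGroup M] [Module R M]

/-- An increasing countable closure. -/
theorem exists_countable_closed {ι : Type u} (S : ι → Set ι) (hS : ∀ i, (S i).Countable) (i : ι) :
    ∃ I : Set ι, I.Countable ∧ i ∈ I ∧ ∀ j ∈ I, S j ⊆ I := by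
  let F : ℕ → Set ι := fun n => Nat.rec (motive := fun _ => Set ι) {i} (fun _ A => ⋃ j ∈ A, S j) n
  have hF : ∀ n, (F n).Countable := by
    intro n
    induction n with
    | zero => exact Set.countable_singleton i
    | succ n ih => exact ih.biUnion fun j _ => hS j
  refine ⟨⋃ n, F n, Set.countable_iUnion hF, Set.mem_iUnion.2 ⟨0, rfl⟩, fun j hj a ha => ?_⟩
  obtain ⟨n, hn⟩ := Set.mem_iUnion.1 hj
  exact Set.mem_iUnion.2 ⟨n + 1, Set.mem_biUnion hn ha⟩

variable {ι : Type u} {A : ι → Type u} [∀ i, AddCommGroup (A i)] [∀ i, Module R (A i)]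

/-- Elements supported in `J`. -/
def supportedIn (R : Type u) [CommRing R] {ι : Type u} (A : ι → Type u) [∀ i, AddCommGroup (A i)]
    [∀ i, Module R (A i)] (J : Set ι) : Submodule R (DirectSum ι A) :=
  ⨅ i ∈ Jᶜ, LinearMap.ker (DirectSum.component R ι A i)

theorem mem_supportedIn {J : Set ι} {x : DirectSum ι A} :
    x ∈ supportedIn R A J ↔ ∀ i ∉ J, x i = 0 := by
  simp [supportedIn, Submodule.mem_iInf]
  rfl

open Classical in
theorem lof_mem_supportedIn {J : Set ι} {i : ι} (hi : i ∈ J) (a : A i) :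
    DirectSum.lof R ι A i a ∈ supportedIn R A J :=
  mem_supportedIn.2 fun j hj => DFinsupp.single_eq_of_ne (fun h => hj (h ▸ hi))

theorem exists_kaplansky (π : DirectSum ι A →ₗ[R] DirectSum ι A) (hπ : ∀ x, π (π x) = π x)
    (hA : ∀ i, IsCountablyGenerated R (A i)) :
    ∃ 𝓛 : Set (Submodule R (DirectSum ι A)), sSupIndep 𝓛 ∧ sSup 𝓛 = LinearMap.range π ∧
      ∀ L ∈ 𝓛, ∃ s : Set (DirectSum ι A), s.Countable ∧ Submodule.span R s = L := by
  classical
  choose s hs hspan using hA
  let C : Set (Set ι × Set (Submodule R (DirectSum ι A))) := {p |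
    (supportedIn R A p.1).map π ≤ supportedIn R A p.1 ∧ sSupIndep p.2 ∧
      sSup p.2 = (supportedIn R A p.1).map π ∧
      ∀ L ∈ p.2, ∃ t : Set (DirectSum ι A), t.Countable ∧ Submodule.span R t = L}
  have hbot : (⟨∅, ∅⟩ : Set ι × Set (Submodule R (DirectSum ι A))) ∈ C := by
    have h0 : supportedIn R A (∅ : Set ι) = ⊥ := by
      refine (Submodule.eq_bot_iff _).2 fun x hx => DFinsupp.ext fun i => ?_
      exact mem_supportedIn.1 hx i (Set.notMem_empty i)
    refine ⟨?_, sSupIndep_empty, ?_, fun L hL => absurd hL (Set.notMem_empty L)⟩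
    · show (supportedIn R A (∅ : Set ι)).map π ≤ _
      rw [h0, Submodule.map_bot]
    · show sSup ∅ = (supportedIn R A (∅ : Set ι)).map π
      rw [h0, Submodule.map_bot, sSup_empty]
  obtain ⟨p, -, hp, hmax⟩ := zorn_le_nonempty₀ C (fun c hcC hc q hq => by
    refine ⟨⟨⋃ x ∈ c, x.1, ⋃ x ∈ c, x.2⟩, ?_, fun z hz => ⟨Set.subset_biUnion_of_mem (u := fun x : Set ι × Set (Submodule R (DirectSum ι A)) => x.1) hz,
      Set.subset_biUnion_of_mem (u := fun x : Set ι × Set (Submodule R (DirectSum ι A)) => x.2) hz⟩⟩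
    haveI : Nonempty c := ⟨⟨q, hq⟩⟩
    have hdir : Directed (· ≤ ·) (fun x : c => (x : Set ι × Set (Submodule R (DirectSum ι A)))) :=
      hc.directedOn.directed_val
    have hU : supportedIn R A (⋃ x ∈ c, x.1) = ⨆ x : c, supportedIn R A x.1.1 := by
      refine le_antisymm (fun x hx => ?_) (iSup_le fun z => fun x hx => ?_)
      · have hfin : ∀ t : Finset ι, (↑t ⊆ ⋃ x ∈ c, x.1) → ∃ z : c, ↑t ⊆ z.1.1 := by
          intro t
          induction t using Finset.induction_on with
          | empty => exact fun _ => ⟨⟨q, hq⟩, by simp⟩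
          | insert a t _ ih =>
            intro h
            rw [Finset.coe_insert, Set.insert_subset_iff] at h
            obtain ⟨z, hz⟩ := ih h.2
            obtain ⟨w, hw, haw⟩ := Set.mem_iUnion₂.1 h.1
            obtain ⟨v, h1, h2⟩ := hdir z ⟨w, hw⟩
            exact ⟨v, by rw [Finset.coe_insert, Set.insert_subset_iff]; exact ⟨h2.1 haw, hz.trans h1.1⟩⟩
        obtain ⟨z, hz⟩ := hfin (DFinsupp.support x) (fun i hi => by
          by_contra h
          exact DFinsupp.mem_support_iff.1 hi (mem_supportedIn.1 hx i h))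
        refine Submodule.mem_iSup_of_mem z (mem_supportedIn.2 fun i hi => ?_)
        by_contra h
        exact hi (hz (DFinsupp.mem_support_iff.2 h))
      · exact mem_supportedIn.2 fun i hi => mem_supportedIn.1 hx i fun h => hi (Set.mem_biUnion z.2 h)
    refine ⟨?_, ?_, ?_, ?_⟩
    · show (supportedIn R A (⋃ x ∈ c, x.1)).map π ≤ _
      rw [hU, Submodule.map_iSup]
      exact iSup_mono fun z => (hcC z.2).1
    · show sSupIndep (⋃ x ∈ c, x.2)
      rw [Set.biUnion_eq_iUnion]
      exact sSupIndep_iUnion_of_directed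
        (fun a b => by obtain ⟨v, h1, h2⟩ := hdir a b; exact ⟨v, h1.2, h2.2⟩) fun z => (hcC z.2).2.1
    · show sSup (⋃ x ∈ c, x.2) = (supportedIn R A (⋃ x ∈ c, x.1)).map π
      rw [hU, Submodule.map_iSup, Set.biUnion_eq_iUnion, sSup_iUnion]
      exact iSup_congr fun z => (hcC z.2).2.2.1
    · intro L hL
      obtain ⟨z, hz, hzL⟩ := Set.mem_iUnion₂.1 hL
      exact (hcC hz).2.2.2 L hzL) ⟨∅, ∅⟩ hbot
  obtain ⟨J, 𝓛⟩ := p
  obtain ⟨hstab, hind, hsup, hcount⟩ := hp
  by_cases hJ : J = Set.univ
  · refine ⟨𝓛, hind, ?_, hcount⟩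
    have : supportedIn R A J = ⊤ := eq_top_iff.2 fun x _ => mem_supportedIn.2 fun i hi => by simp [hJ] at hi
    rw [hsup, LinearMap.range_eq_map]
    exact congrArg (Submodule.map π) this
  exfalso
  obtain ⟨i₀, hi₀⟩ := (Set.ne_univ_iff_exists_notMem J).1 hJ
  obtain ⟨I, hI, hi₀I, hIcl⟩ := exists_countable_closed
    (fun i => ⋃ a ∈ s i, ↑(DFinsupp.support (π (DirectSum.lof R ι A i a)) : Finset ι))
    (fun i => (hs i).biUnion fun a _ => Finset.countable_toSet _) i₀
  let r : DirectSum ι A →ₗ[R] DirectSum ι A := DFinsupp.filterLinearMap R A (· ∈ J)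
  have hr : ∀ x i, r x i = if i ∈ J then x i else 0 := fun x i => DFinsupp.filter_apply _ i x
  have hr_mem : ∀ x, r x ∈ supportedIn R A J := fun x => mem_supportedIn.2 fun i hi => by simp [hr, hi]
  have hr_id : ∀ x ∈ supportedIn R A J, r x = x := fun x hx => DFinsupp.ext fun i => by
    by_cases hi : i ∈ J
    · simp [hr, hi]
    · simp [hr, hi, mem_supportedIn.1 hx i hi]
  -- the complementary part
  let ψ : DirectSum ι A →ₗ[R] DirectSum ι A := π - π ∘ₗ r ∘ₗ π
  let t : Set (DirectSum ι A) := ⋃ i ∈ I, (fun a => ψ (DirectSum.lof R ι A i a)) '' s i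
  let L : Submodule R (DirectSum ι A) := Submodule.span R t
  have hψ0 : ∀ x ∈ supportedIn R A J, ψ x = 0 := by
    intro x hx
    have h1 : r (π x) = π x := hr_id _ (hstab ⟨x, hx, rfl⟩)
    simp [ψ, h1, hπ]
  have hgen : supportedIn R A (J ∪ I) ≤ supportedIn R A J ⊔
      Submodule.span R (⋃ i ∈ I, DirectSum.lof R ι A i '' s i) := by
    intro x hx
    rw [← DFinsupp.sum_single (f := x)]
    refine Submodule.sum_mem _ fun i hi => ?_
    have hiu : i ∈ J ∪ I := by
      by_contra h
      exact DFinsupp.mem_support_iff.1 hi (mem_supportedIn.1 hx i h)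
    rcases hiu with h | h
    · exact Submodule.mem_sup_left (lof_mem_supportedIn h (x i))
    · refine Submodule.mem_sup_right ?_
      have h2 : x i ∈ Submodule.span R (s i) := hspan i ▸ Submodule.mem_top
      have h3 := Submodule.mem_map_of_mem (f := DirectSum.lof R ι A i) h2
      rw [Submodule.map_span] at h3
      exact Submodule.span_mono (Set.subset_biUnion_of_mem (u := fun i => DirectSum.lof R ι A i '' s i) h) h3
  have hstab' : (supportedIn R A (J ∪ I)).map π ≤ supportedIn R A (J ∪ I) := by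
    refine (Submodule.map_mono hgen).trans ?_
    rw [Submodule.map_sup, sup_le_iff]
    constructor
    · exact hstab.trans fun x hx => mem_supportedIn.2 fun i hi => mem_supportedIn.1 hx i fun h => hi (Or.inl h)
    · rw [Submodule.map_span, Submodule.span_le]
      rintro _ ⟨y, hy, rfl⟩
      obtain ⟨i, hi, a, ha, rfl⟩ := Set.mem_iUnion₂.1 hy
      refine mem_supportedIn.2 fun k hk => ?_
      by_contra h
      exact hk (Or.inr (hIcl i hi (Set.mem_biUnion ha (DFinsupp.mem_support_iff.2 h))))
  have hrψ : ∀ x ∈ L, π (r x) = 0 ∧ π x = x := by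
    intro x hx
    induction hx using Submodule.span_induction with
    | mem x hx =>
      obtain ⟨i, _, a, _, rfl⟩ := Set.mem_iUnion₂.1 hx
      have h1 : r (π (r (π (DirectSum.lof R ι A i a)))) = π (r (π (DirectSum.lof R ι A i a))) :=
        hr_id _ (hstab ⟨_, hr_mem _, rfl⟩)
      constructor
      · simp [ψ, h1, hπ]
      · simp [ψ, hπ]
    | zero => simp
    | add x y _ _ hx hy => simp [hx.1, hx.2, hy.1, hy.2]
    | smul c x _ hx => simp [hx.1, hx.2]
  have hdisj : Disjoint (sSup 𝓛) L := by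
    rw [hsup, Submodule.disjoint_def]
    intro x hx hxL
    have h2 : r x = x := hr_id x (hstab hx)
    obtain ⟨h3, h4⟩ := hrψ x hxL
    rw [h2, h4] at h3
    exact h3
  have hnew : (⟨J ∪ I, insert L 𝓛⟩ : Set ι × Set (Submodule R (DirectSum ι A))) ∈ C := by
    refine ⟨hstab', ?_, ?_, ?_⟩
    · intro a ha
      rcases eq_or_ne a L with rfl | haL
      · refine hdisj.symm.mono_right (sSup_le_sSup ?_)
        rintro b ⟨hb | hb, hbL⟩
        · exact absurd hb hbL
        · exact hb
      have ha' : a ∈ 𝓛 := ha.resolve_left haL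
      have h1 : Disjoint a (sSup (𝓛 \ {a})) := hind ha'
      have h2 : Disjoint (a ⊔ sSup (𝓛 \ {a})) L :=
        hdisj.mono_left (sup_le (le_sSup ha') (sSup_le_sSup Set.sdiff_subset))
      refine (Disjoint.disjoint_sup_right_of_disjoint_sup_left h1 h2).mono_right (sSup_le ?_)
      rintro b ⟨rfl | hb, hba⟩
      · exact le_sup_right
      · exact le_sup_of_le_left (le_sSup ⟨hb, hba⟩)
    · show sSup (insert L 𝓛) = (supportedIn R A (J ∪ I)).map π
      rw [sSup_insert, hsup]
      refine le_antisymm (sup_le ?_ (Submodule.map_mono fun x hx =>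
        mem_supportedIn.2 fun i hi => mem_supportedIn.1 hx i fun h => hi (Or.inl h))) ?_
      · rw [Submodule.span_le]
        rintro x hx
        obtain ⟨i, hi, a, ha, rfl⟩ := Set.mem_iUnion₂.1 hx
        refine ⟨DirectSum.lof R ι A i a - r (π (DirectSum.lof R ι A i a)), ?_, by simp [ψ]⟩
        exact sub_mem (lof_mem_supportedIn (A := fun i => A i) (J := J ∪ I) (i := i) (Or.inr hi) a)
          (mem_supportedIn.2 fun k hk => mem_supportedIn.1 (hr_mem _) k fun h => hk (Or.inl h))
      · refine (Submodule.map_mono hgen).trans ?_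
        rw [Submodule.map_sup]
        refine sup_le le_sup_right ?_
        rw [Submodule.map_span, Submodule.span_le]
        rintro _ ⟨y, hy, rfl⟩
        obtain ⟨i, hi, a, ha, rfl⟩ := Set.mem_iUnion₂.1 hy
        have : π (DirectSum.lof R ι A i a) =
            ψ (DirectSum.lof R ι A i a) + π (r (π (DirectSum.lof R ι A i a))) := by simp [ψ]
        rw [this]
        exact add_mem (Submodule.mem_sup_left (Submodule.subset_span (Set.mem_biUnion hi ⟨a, ha, rfl⟩)))
          (Submodule.mem_sup_right ⟨_, hr_mem _, rfl⟩)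
    · intro L' hL'
      rcases hL' with rfl | hL'
      · exact ⟨t, hI.biUnion fun i _ => (hs i).image _, rfl⟩
      · exact hcount L' hL'
  have hle : (⟨J ∪ I, insert L 𝓛⟩ : Set ι × Set (Submodule R (DirectSum ι A))) ≤ ⟨J, 𝓛⟩ :=
    hmax hnew ⟨Set.subset_union_left, Set.subset_insert _ _⟩
  exact hi₀ (hle.1 (Or.inr hi₀I))

open Classical in
theorem kaplansky {P : Type u} [AddCommGroup P] [Module R P] {ι : Type u} (N : ι → Submodule R M)
    (hN : DirectSum.IsInternal N) (hc : ∀ i, IsCountablyGenerated R (N i))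
    (j : P →ₗ[R] M) (q : M →ₗ[R] P) (hq : q ∘ₗ j = LinearMap.id) :
    ∃ (κ : Type u) (L : κ → Submodule R P), DirectSum.IsInternal L ∧
      ∀ k, IsCountablyGenerated R (L k) := by
  classical
  let e : DirectSum ι (fun i => N i) ≃ₗ[R] M := LinearEquiv.ofBijective (DirectSum.coeLinearMap N) hN
  let j' : P →ₗ[R] DirectSum ι (fun i => N i) := e.symm.toLinearMap ∘ₗ j
  have hq' : ∀ x, q (j x) = x := LinearMap.congr_fun hq
  have hj' : Function.Injective j' := e.symm.injective.comp (Function.LeftInverse.injective hq')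
  obtain ⟨𝓛, hind, hsup, hcount⟩ := exists_kaplansky (j' ∘ₗ q ∘ₗ e.toLinearMap)
    (fun x => by simp [j', hq']) hc
  have hrange : LinearMap.range (j' ∘ₗ q ∘ₗ e.toLinearMap) = LinearMap.range j' := by
    refine le_antisymm (LinearMap.range_comp_le_range _ _) ?_
    rintro _ ⟨x, rfl⟩
    exact ⟨j' x, by simp [j', hq']⟩
  rw [hrange] at hsup
  have hLle : ∀ L : 𝓛, (L : Submodule R _) ≤ LinearMap.range j' := fun L => hsup ▸ le_sSup L.2
  have hmap : ∀ L : 𝓛, ((L : Submodule R _).comap j').map j' = L := fun L =>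
    Submodule.map_comap_eq_of_le (hLle L)
  refine ⟨𝓛, fun L => (L : Submodule R _).comap j', ?_, fun L => ?_⟩
  refine @DirectSum.isInternal_submodule_of_iSupIndep_of_iSup_eq_top R _ _ (fun a b => Classical.propDecidable (a = b))
    _ _ _ _ (fun L => ?_) ?_
  · rw [disjoint_iff, ← (Submodule.map_injective_of_injective hj').eq_iff, Submodule.map_bot,
      Submodule.map_inf _ hj', Submodule.map_iSup, hmap]
    simp only [Submodule.map_iSup, hmap]
    exact ((sSupIndep_iff 𝓛).1 hind L).eq_bot
  · apply Submodule.map_injective_of_injective hj'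
    rw [Submodule.map_iSup, Submodule.map_top, ← hsup, sSup_eq_iSup']
    exact iSup_congr hmap
  · obtain ⟨t, ht, htL⟩ := hcount L L.2
    have hts : ∀ x ∈ t, x ∈ LinearMap.range j' := fun x hx => hLle L (htL ▸ Submodule.subset_span hx)
    refine ⟨Subtype.val ⁻¹' (j' ⁻¹' t), (ht.preimage hj').preimage Subtype.val_injective, ?_⟩
    refine Submodule.map_injective_of_injective ((L : Submodule R _).comap j').injective_subtype ?_
    rw [Submodule.map_span, Submodule.map_top, Submodule.range_subtype]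
    apply Submodule.map_injective_of_injective hj'
    rw [Submodule.map_span, hmap]
    refine le_antisymm ?_ (htL.ge.trans (Submodule.span_mono ?_))
    · rw [Submodule.span_le]
      rintro _ ⟨_, ⟨x, hx, rfl⟩, rfl⟩
      exact htL.le (Submodule.subset_span hx)
    · intro x hx
      obtain ⟨y, rfl⟩ := hts x hx
      exact ⟨y, ⟨⟨y, show j' y ∈ (L : Submodule R _) by rw [← htL]; exact Submodule.subset_span hx⟩, hx, rfl⟩, rfl⟩

end

end Groth.Agent.CAlgML
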