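import Mathlib
import Groth.Agent.CAlgML.Kaplansky

/-!
Projective modules over local rings are free.
-/

namespace Groth.Agent.CAlgML

open CAlg IsLocalRing

universe u

variable {R : Type u} [CommRing R] [IsLocalRing R] {P : Type u} [AddCommGroup P] [Module R P]

theorem exists_free_summand [Module.Projective R P] (x : P) :
    ∃ (n : ℕ) (s : (Fin n → R) →ₗ[R] P) (r : P →ₗ[R] (Fin n → R)),
      r ∘ₗ s = LinearMap.id ∧ x ∈ LinearMap.range s := by
  classical
  obtain ⟨σ, hσ⟩ := (Module.projective_def' (R := R) (P := P)).1 ‹_›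
  let π : (P →₀ R) →ₗ[R] P := Finsupp.linearCombination R id
  let Good : ℕ → Prop := fun n => ∃ (v : (Fin n → R) →ₗ[R] (P →₀ R)) (r : (P →₀ R) →ₗ[R] (Fin n → R)),
    r ∘ₗ v = LinearMap.id ∧ σ x ∈ LinearMap.range v
  have hex : ∃ n, Good n := by
    let e := (σ x).support.equivFin
    refine ⟨_, Fintype.linearCombination R (fun k => Finsupp.single (e.symm k : P) 1),
      LinearMap.pi fun k => Finsupp.lapply (e.symm k : P), ?_, ⟨fun k => σ x (e.symm k), ?_⟩⟩
    · refine (Pi.basisFun R _).ext fun k => funext fun l => ?_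
      rw [Pi.basisFun_apply, LinearMap.comp_apply, Fintype.linearCombination_apply_single, one_smul]
      rcases eq_or_ne k l with rfl | h
      · simp
      · have : (e.symm k : P) ≠ e.symm l := fun h' => h (e.symm.injective (Subtype.ext h'))
        simp [this.symm, h.symm]
    · rw [Fintype.linearCombination_apply]
      calc ∑ k, σ x (e.symm k) • Finsupp.single (e.symm k : P) 1
          = ∑ k, Finsupp.single (e.symm k : P) (σ x (e.symm k)) := by simp
        _ = ∑ p : (σ x).support, Finsupp.single (p : P) (σ x p) :=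
            Fintype.sum_equiv e.symm _ _ fun k => rfl
        _ = σ x := by
            rw [Finset.sum_coe_sort (σ x).support fun p => Finsupp.single p (σ x p)]
            exact Finsupp.sum_single _
  obtain ⟨n, hn, hmin⟩ : ∃ n, Good n ∧ ∀ m < n, ¬ Good m :=
    ⟨Nat.find hex, Nat.find_spec hex, fun m hm => Nat.find_min hex hm⟩
  obtain ⟨v, r, hrv, a, ha⟩ := hn
  -- minimality
  have key : ∀ j, a j ∉ Ideal.span (a '' {j}ᶜ) := by
    intro j hj
    obtain ⟨m, rfl⟩ : ∃ m, n = m + 1 := ⟨n - 1, by have := j.2; omega⟩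
    have hj' : a j ∈ Submodule.span R (Set.range fun k : Fin m => a (j.succAbove k)) := by
      refine (Submodule.span_le.2 ?_) hj
      rintro _ ⟨i, hi, rfl⟩
      obtain ⟨k, rfl⟩ := Fin.exists_succAbove_eq hi
      exact Submodule.subset_span ⟨k, rfl⟩
    obtain ⟨c, hc⟩ := (Submodule.mem_span_range_iff_exists_fun R).1 hj'
    let u : (Fin m → R) →ₗ[R] (Fin (m + 1) → R) :=
      Fintype.linearCombination R fun k => Pi.single (j.succAbove k) 1 + c k • Pi.single j 1
    let w : (Fin (m + 1) → R) →ₗ[R] (Fin m → R) := LinearMap.pi fun k => LinearMap.proj (j.succAbove k)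
    refine hmin m (Nat.lt_succ_self m) ⟨v ∘ₗ u, w ∘ₗ r, ?_, ⟨fun k => a (j.succAbove k), ?_⟩⟩
    · rw [LinearMap.comp_assoc, ← LinearMap.comp_assoc u, hrv, LinearMap.id_comp]
      refine (Pi.basisFun R _).ext fun k => funext fun l => ?_
      rw [Pi.basisFun_apply, LinearMap.comp_apply, Fintype.linearCombination_apply_single, one_smul]
      simp [w, Pi.single_apply, Fin.succAbove_ne j l, (Fin.succAbove_right_injective (p := j)).eq_iff]
    · rw [LinearMap.comp_apply, ← ha]
      congr 1
      funext i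
      simp only [u, Fintype.linearCombination_apply, Finset.sum_apply, Pi.smul_apply, Pi.add_apply,
        smul_eq_mul]
      rcases Fin.eq_self_or_eq_succAbove j i with rfl | ⟨k, rfl⟩
      · simp only [Pi.single_eq_same, Pi.single_eq_of_ne (Fin.succAbove_ne i _).symm, mul_one, zero_add]
        rw [← hc]
        simp [mul_comm]
      · simp [Pi.single_apply, Fin.succAbove_ne, (Fin.succAbove_right_injective (p := j)).eq_iff]
  have hσπ : ∀ z, π (σ z) = z := LinearMap.congr_fun hσ
  let T : (Fin n → R) →ₗ[R] (Fin n → R) := r ∘ₗ σ ∘ₗ π ∘ₗ v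
  have hTa : T a = a := by
    show r (σ (π (v a))) = a
    rw [ha, hσπ, ← ha]
    exact LinearMap.congr_fun hrv a
  let B := LinearMap.toMatrix' T
  have hB : ∀ i j, B i j - (1 : Matrix (Fin n) (Fin n) R) i j ∈ maximalIdeal R := by
    intro i j
    have hrow : ∑ k, B i k * a k = a i := congrFun ((LinearMap.toMatrix'_mulVec T a).trans hTa) i
    by_contra hu
    obtain ⟨w, hw⟩ := (notMem_maximalIdeal.1 hu).exists_left_inv
    apply key j
    have h2 : (B i j - (1 : Matrix (Fin n) (Fin n) R) i j) * a j =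
        - ∑ k ∈ Finset.univ.erase j, (B i k - (1 : Matrix (Fin n) (Fin n) R) i k) * a k := by
      rw [eq_neg_iff_add_eq_zero, Finset.add_sum_erase _ (fun k => (B i k - (1 : Matrix (Fin n) (Fin n) R) i k) * a k) (Finset.mem_univ j)]
      simp [sub_mul, Finset.sum_sub_distrib, hrow, Matrix.one_apply]
    rw [show a j = w * ((B i j - (1 : Matrix (Fin n) (Fin n) R) i j) * a j) by rw [← mul_assoc, hw, one_mul], h2]
    refine Ideal.mul_mem_left _ w (neg_mem (Submodule.sum_mem _ fun k hk => ?_))
    exact Ideal.mul_mem_left _ _ (Ideal.subset_span ⟨k, (Finset.mem_erase.1 hk).1, rfl⟩)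
  have hdet : IsUnit B.det := by
    have h1 : (residue R).mapMatrix B = 1 := by
      ext i j
      have := Ideal.Quotient.eq.2 (hB i j)
      rw [RingHom.mapMatrix_apply, Matrix.map_apply]
      refine this.trans ?_
      show residue R ((1 : Matrix (Fin n) (Fin n) R) i j) = _
      rcases eq_or_ne i j with rfl | h
      · rw [Matrix.one_apply_eq, Matrix.one_apply_eq, map_one]
      · rw [Matrix.one_apply_ne h, Matrix.one_apply_ne h, map_zero]
    refine residue_ne_zero_iff_isUnit _ |>.1 ?_
    rw [RingHom.map_det, h1, Matrix.det_one]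
    exact one_ne_zero
  have hT : Function.Bijective T := by
    have h : Function.Bijective B.mulVec :=
      OrzechProperty.bijective_of_surjective_endomorphism (Matrix.mulVecLin B)
        (Matrix.mulVec_surjective_iff_isUnit.2 ((Matrix.isUnit_iff_isUnit_det B).2 hdet))
    rwa [show B.mulVec = T from funext (LinearMap.toMatrix'_mulVec T)] at h
  refine ⟨n, π ∘ₗ v, (LinearEquiv.ofBijective T hT).symm.toLinearMap ∘ₗ r ∘ₗ σ,
    LinearMap.ext fun z => (LinearEquiv.ofBijective T hT).symm_apply_apply z, ⟨a, ?_⟩⟩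
  rw [LinearMap.comp_apply, ha, hσπ]

theorem free_of_projective_of_countablyGenerated [Module.Projective R P]
    (hc : IsCountablyGenerated R P) : Module.Free R P := by
  classical
  obtain ⟨s, hs, hspan⟩ := hc
  obtain ⟨x, hx⟩ : ∃ x : ℕ → P, s ⊆ Set.range x := by
    rcases s.eq_empty_or_nonempty with h | h
    · exact ⟨fun _ => 0, by simp [h]⟩
    · obtain ⟨e, he⟩ := hs.exists_eq_range h
      exact ⟨e, he.le⟩
  let St := {e : P →ₗ[R] P // e ∘ₗ e = e}
  have step : ∀ (E : St) (y : P), ∃ (E' : St) (k : ℕ) (s : (Fin k → R) →ₗ[R] P) (r : P →ₗ[R] (Fin k → R)),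
      r ∘ₗ s = LinearMap.id ∧ E.1 ∘ₗ s = s ∧ r ∘ₗ E.1 = r ∧ E'.1 = E.1 - s ∘ₗ r ∧
      E.1 y ∈ LinearMap.range s := by
    rintro ⟨e, he⟩ y
    haveI : Module.Projective R (LinearMap.range e) := Module.Projective.of_split (LinearMap.range e).subtype
      e.rangeRestrict (LinearMap.ext fun z => by
        obtain ⟨w, hw⟩ := z.2
        exact Subtype.ext ((congrArg e hw.symm).trans ((LinearMap.congr_fun he w).trans hw)))
    obtain ⟨k, s, r, hrs, b, hb⟩ := exists_free_summand (R := R) (e.rangeRestrict y)
    have h1 : ∀ z : LinearMap.range e, e z = z := fun z => by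
      obtain ⟨w, hw⟩ := z.2
      exact (congrArg e hw.symm).trans ((LinearMap.congr_fun he w).trans hw)
    let s' : (Fin k → R) →ₗ[R] P := (LinearMap.range e).subtype ∘ₗ s
    let r' : P →ₗ[R] (Fin k → R) := r ∘ₗ e.rangeRestrict
    have hre : ∀ z, r' (e z) = r' z := fun z => congrArg r (Subtype.ext (LinearMap.congr_fun he z))
    have hes : ∀ v, e (s' v) = s' v := fun v => h1 _
    have hrs' : ∀ v, r' (s' v) = v := fun v => by
      have : e.rangeRestrict (s' v) = s v := Subtype.ext (h1 _)
      show r (e.rangeRestrict (s' v)) = v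
      rw [this]
      exact LinearMap.congr_fun hrs v
    refine ⟨⟨e - s' ∘ₗ r', LinearMap.ext fun z => ?_⟩, k, s', r', LinearMap.ext hrs', LinearMap.ext hes,
      LinearMap.ext hre, rfl, ⟨b, congrArg Subtype.val hb⟩⟩
    have h2 : e (e z) = e z := LinearMap.congr_fun he z
    simp [hes, hre, hrs', h2]
  choose next k s r hrs hes hre hE hy using step
  let E : ℕ → St := fun n => Nat.rec (motive := fun _ => St) ⟨LinearMap.id, rfl⟩ (fun m T => next T (x m)) n
  have hE' : ∀ n z, (E (n + 1)).1 z = (E n).1 z - s (E n) (x n) (r (E n) (x n) z) := fun n z => by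
    show (next (E n) (x n)).1 z = _
    rw [hE]; rfl
  have hid : ∀ n z, (E n).1 ((E n).1 z) = (E n).1 z := fun n z => LinearMap.congr_fun (E n).2 z
  have hs1 : ∀ n v, (E n).1 (s (E n) (x n) v) = s (E n) (x n) v := fun n v => LinearMap.congr_fun (hes _ _) v
  have hr1 : ∀ n z, r (E n) (x n) ((E n).1 z) = r (E n) (x n) z := fun n z => LinearMap.congr_fun (hre _ _) z
  have hrs1 : ∀ n v, r (E n) (x n) (s (E n) (x n) v) = v := fun n v => LinearMap.congr_fun (hrs _ _) v
  -- absorption
  have habs : ∀ n d z, (E (n + d)).1 ((E n).1 z) = (E (n + d)).1 z ∧ (E n).1 ((E (n + d)).1 z) = (E (n + d)).1 z := by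
    intro n d
    induction d with
    | zero => exact fun z => ⟨hid n z, hid n z⟩
    | succ d ih =>
      intro z
      have h3 : ∀ w, r (E (n + d)) (x (n + d)) ((E n).1 w) = r (E (n + d)) (x (n + d)) w := fun w => by
        rw [← hr1 (n + d) ((E n).1 w), (ih w).1, hr1]
      have h4 : ∀ v, (E n).1 (s (E (n + d)) (x (n + d)) v) = s (E (n + d)) (x (n + d)) v := fun v => by
        rw [← hs1 (n + d) v, (ih _).2]
      constructor
      · show (E (n + d + 1)).1 _ = (E (n + d + 1)).1 _
        rw [hE', hE', (ih z).1, h3]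
      · show (E n).1 ((E (n + d + 1)).1 z) = (E (n + d + 1)).1 z
        rw [hE', map_sub, (ih z).2, h4]
  have hkill : ∀ n v, (E (n + 1)).1 (s (E n) (x n) v) = 0 := fun n v => by
    rw [hE', hs1, hrs1, sub_self]
  have hkill' : ∀ n z, r (E n) (x n) ((E (n + 1)).1 z) = 0 := fun n z => by
    rw [hE', map_sub, hr1, hrs1, sub_self]
  have horth : ∀ m n v, m ≠ n → r (E n) (x n) (s (E m) (x m) v) = 0 := by
    intro m n v hmn
    rcases lt_or_gt_of_ne hmn with h | h
    · obtain ⟨d, rfl⟩ := Nat.exists_eq_add_of_le (Nat.succ_le_of_lt h)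
      rw [← hr1, ← (habs (m + 1) d _).1, hkill, map_zero, map_zero]
    · obtain ⟨d, rfl⟩ := Nat.exists_eq_add_of_le (Nat.succ_le_of_lt h)
      rw [← hs1, ← (habs (n + 1) d _).2, hkill']
  let Φ : DirectSum ℕ (fun n => Fin (k (E n) (x n)) → R) →ₗ[R] P :=
    DirectSum.toModule R ℕ P fun n => s (E n) (x n)
  have hinj : Function.Injective Φ := by
    refine (injective_iff_map_eq_zero _).2 fun z hz => DFinsupp.ext fun n => ?_
    have : ∀ y, r (E n) (x n) (Φ y) = y n := fun y => by
      induction y using DirectSum.induction_on with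
      | zero => simp
      | add a b ha hb => simp [ha, hb]
      | of m v =>
        rw [← DirectSum.lof_eq_of R, DirectSum.toModule_lof]
        rcases eq_or_ne m n with rfl | h
        · rw [hrs1, DirectSum.lof_apply]
        · rw [horth m n v h, DirectSum.lof_eq_of, DirectSum.of_eq_of_ne _ _ _ h.symm]
    rw [← this, hz, map_zero]
    rfl
  have hsurj : Function.Surjective Φ := by
    rw [← LinearMap.range_eq_top, eq_top_iff, ← hspan, Submodule.span_le]
    intro y hy'
    obtain ⟨n, rfl⟩ := hx hy'
    have h1 : ∀ m z, z - (E m).1 z ∈ LinearMap.range Φ := by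
      intro m
      induction m with
      | zero => exact fun z => by simp [E]
      | succ m ih =>
        intro z
        rw [hE', sub_sub_eq_add_sub, add_sub_right_comm]
        exact add_mem (ih z) ⟨DirectSum.lof R ℕ _ m (r (E m) (x m) z), DirectSum.toModule_lof R m _⟩
    obtain ⟨b, hb⟩ := hy (E n) (x n)
    have h2 : (E n).1 (x n) ∈ LinearMap.range Φ :=
      ⟨DirectSum.lof R ℕ _ n b, (DirectSum.toModule_lof R n _).trans hb⟩
    simpa using add_mem (h1 n (x n)) h2
  exact Module.Free.of_equiv (LinearEquiv.ofBijective Φ ⟨hinj, hsurj⟩)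

omit [IsLocalRing R] in
open Classical in
theorem exists_countablyGenerated_decomposition [Module.Projective R P] :
    ∃ (κ : Type u) (L : κ → Submodule R P), DirectSum.IsInternal L ∧
      ∀ k, IsCountablyGenerated R (L k) := by
  classical
  obtain ⟨σ, hσ⟩ := (Module.projective_def' (R := R) (P := P)).1 ‹_›
  let F : P → Submodule R (P →₀ R) := fun p => LinearMap.range (Finsupp.lsingle p)
  have hF : DirectSum.IsInternal F := by
    refine DirectSum.isInternal_submodule_of_iSupIndep_of_iSup_eq_top (fun p => ?_) Finsupp.iSup_lsingle_range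
    have := Finsupp.disjoint_lsingle_lsingle (R := R) (M := R) ({p} : Set P) {p}ᶜ disjoint_compl_right
    simpa [F] using this
  exact kaplansky F hF (fun p => ⟨{⟨Finsupp.single p 1, ⟨1, rfl⟩⟩}, Set.countable_singleton _, by
    rw [eq_top_iff]
    rintro ⟨_, c, rfl⟩ -
    exact Submodule.mem_span_singleton.2 ⟨c, Subtype.ext (by simp)⟩⟩) σ (Finsupp.linearCombination R id) hσ

theorem free_of_projective [Module.Projective R P] : Module.Free R P := by
  classical
  obtain ⟨κ, L, hL, hc⟩ := exists_countablyGenerated_decomposition (R := R) (P := P)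
  let e := LinearEquiv.ofBijective (DirectSum.coeLinearMap L) hL
  haveI : ∀ k, Module.Free R (L k) := fun k => by
    haveI : Module.Projective R (L k) := Module.Projective.of_split
      (e.toLinearMap ∘ₗ DirectSum.lof R κ (fun k => L k) k)
      (DirectSum.component R κ (fun k => L k) k ∘ₗ e.symm.toLinearMap)
      (LinearMap.ext fun z => by simp)
    exact free_of_projective_of_countablyGenerated (hc k)
  exact Module.Free.of_equiv e

end Groth.Agent.CAlgML
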