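import Mathlib
import Groth.Prelude.Def_Found
import Groth.Agent.CAlgML.Core

/-!
Mittag-Leffler modules: the domination criterion, flat case, permanence properties.
-/

namespace Groth.Agent.CAlgML

open TensorProduct CAlg

universe u

variable {R : Type u} [CommRing R] {M : Type u} [AddCommGroup M] [Module R M]

theorem isMittagLeffler_iff : IsMittagLeffler R M ↔ ∀ (ι : Type u) (Q : ι → Type u)
    [∀ i, AddCommGroup (Q i)] [∀ i, Module R (Q i)],
    Function.Injective (piRightHom R R M Q) := Iff.rfl

theorem isMittagLeffler_of_finitePresentation [Module.FinitePresentation R M] :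
    IsMittagLeffler R M := fun _ _ _ _ => piRightHom_bijective_of_finitePresentation.1

theorem isMittagLeffler_of_exact {A N : Type u} [AddCommGroup A] [Module R A] [Module.Finite R A]
    [AddCommGroup N] [Module R N] (f : A →ₗ[R] M) (g : M →ₗ[R] N) (hfg : Function.Exact f g)
    (hg : Function.Surjective g) (hM : IsMittagLeffler R M) : IsMittagLeffler R N :=
  fun ι Q _ _ => piRightHom_injective_of_exact f g hfg hg (hM ι Q)

theorem rTensor_eq_zero_of_forall (hM : IsMittagLeffler R M) {P : Type u} [AddCommGroup P]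
    [Module R P] (f : P →ₗ[R] M) {ι : Type u} (T : ι → Type u) [∀ i, AddCommGroup (T i)]
    [∀ i, Module R (T i)] (x : P ⊗[R] (∀ i, T i))
    (h : ∀ i, f.rTensor (T i) (piRightHom R R P T x i) = 0) : f.rTensor _ x = 0 :=
  hM ι T (funext fun i => by rw [piRightHom_rTensor, h i, map_zero, Pi.zero_apply])

/-- To test domination it suffices to tensor with quotients of finite free modules. -/
theorem ker_rTensor_le_of_quot {P A B : Type u} [AddCommGroup P] [Module R P] [AddCommGroup A]
    [Module R A] [AddCommGroup B] [Module R B] (f : P →ₗ[R] A) (g : P →ₗ[R] B)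
    (H : ∀ (n : ℕ) (K : Submodule R (Fin n → R)) (z : P ⊗[R] ((Fin n → R) ⧸ K)),
      f.rTensor _ z = 0 → g.rTensor _ z = 0)
    (N : Type u) [AddCommGroup N] [Module R N] :
    LinearMap.ker (f.rTensor N) ≤ LinearMap.ker (g.rTensor N) := by
  intro y hy
  rw [LinearMap.mem_ker] at hy ⊢
  obtain ⟨N', _, _, _, h', y', rfl, hy'⟩ := exists_finitePresentation_lift f y hy
  obtain ⟨n, K, e, -⟩ := Module.FinitePresentation.exists_fin R N'
  have hz : f.rTensor _ (e.toLinearMap.lTensor P y') = 0 := by
    rw [← LinearMap.comp_apply, LinearMap.rTensor_comp_lTensor, ← LinearMap.lTensor_comp_rTensor,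
      LinearMap.comp_apply, hy', map_zero]
  have hgy : g.rTensor N' y' = 0 := by
    apply (e.lTensor B).injective
    rw [map_zero, ← H n K _ hz]
    show e.toLinearMap.lTensor B (g.rTensor N' y') = _
    rw [← LinearMap.comp_apply, LinearMap.lTensor_comp_rTensor, ← LinearMap.rTensor_comp_lTensor,
      LinearMap.comp_apply]
  rw [← LinearMap.comp_apply, LinearMap.rTensor_comp_lTensor, ← LinearMap.lTensor_comp_rTensor,
    LinearMap.comp_apply, hgy, map_zero]

theorem exists_factor_forall (hM : IsMittagLeffler R M) {P : Type u} [AddCommGroup P] [Module R P]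
    [Module.FinitePresentation R P] (f : P →ₗ[R] M) {ι : Type u} (T : ι → Type u)
    [∀ i, AddCommGroup (T i)] [∀ i, Module R (T i)] (z : ∀ i, P ⊗[R] T i)
    (hz : ∀ i, f.rTensor (T i) (z i) = 0) :
    ∃ (Q : Type u) (_ : AddCommGroup Q) (_ : Module R Q) (_ : Module.FinitePresentation R Q)
      (g : P →ₗ[R] Q) (h : Q →ₗ[R] M), f = h ∘ₗ g ∧ ∀ i, g.rTensor (T i) (z i) = 0 := by
  obtain ⟨x, hx⟩ := piRightHom_surjective_of_finite (R := R) (M := P) (Q := T) z
  have hx0 : f.rTensor _ x = 0 := rTensor_eq_zero_of_forall hM f T x fun i => by rw [hx, hz]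
  obtain ⟨Q, _, _, _, g, h, hfg, hg⟩ := exists_factor_rTensor_eq_zero f x hx0
  refine ⟨Q, inferInstance, inferInstance, inferInstance, g, h, hfg, fun i => ?_⟩
  rw [← hx, ← piRightHom_rTensor, hg, map_zero, Pi.zero_apply]

/-- The index set for testing domination. -/
def TestIdx {P : Type u} [AddCommGroup P] [Module R P] (f : P →ₗ[R] M) : Type u :=
  Σ' (n : ℕ) (K : Submodule R (Fin n → R)), {x : P ⊗[R] ((Fin n → R) ⧸ K) // f.rTensor _ x = 0}

/-- The domination property of Mittag-Leffler modules. -/
theorem exists_dominating (hM : IsMittagLeffler R M) {P : Type u} [AddCommGroup P] [Module R P]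
    [Module.FinitePresentation R P] (f : P →ₗ[R] M) :
    ∃ (Q : Type u) (_ : AddCommGroup Q) (_ : Module R Q) (_ : Module.FinitePresentation R Q)
      (g : P →ₗ[R] Q) (h : Q →ₗ[R] M), f = h ∘ₗ g ∧
      ∀ (N : Type u) [AddCommGroup N] [Module R N],
        LinearMap.ker (f.rTensor N) = LinearMap.ker (g.rTensor N) := by
  obtain ⟨Q, _, _, _, g, h, hfg, hg⟩ := exists_factor_forall hM f (ι := TestIdx f)
    (fun i => (Fin i.1 → R) ⧸ i.2.1) (fun i => i.2.2.1) (fun i => i.2.2.2)
  refine ⟨Q, inferInstance, inferInstance, inferInstance, g, h, hfg, fun N _ _ =>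
    le_antisymm (ker_rTensor_le_of_quot f g (fun n K z hz => hg ⟨n, K, z, hz⟩) N) ?_⟩
  intro y hy
  rw [LinearMap.mem_ker] at hy ⊢
  rw [hfg, LinearMap.rTensor_comp_apply, hy, map_zero]

theorem isMittagLeffler_of_dominating
    (H : ∀ (n : ℕ) (f : (Fin n → R) →ₗ[R] M),
      ∃ (Q : Type u) (_ : AddCommGroup Q) (_ : Module R Q) (_ : Module.FinitePresentation R Q)
        (g : (Fin n → R) →ₗ[R] Q),
        ∀ (N : Type u) [AddCommGroup N] [Module R N],
          LinearMap.ker (f.rTensor N) = LinearMap.ker (g.rTensor N)) :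
    IsMittagLeffler R M := by
  intro ι T _ _
  refine (injective_iff_map_eq_zero _).2 fun x hx => ?_
  obtain ⟨k, m, q, rfl⟩ := TensorProduct.exists_sum_tmul_eq x
  let f : (Fin k → R) →ₗ[R] M := Fintype.linearCombination R m
  let x' : (Fin k → R) ⊗[R] (∀ i, T i) := ∑ j, Pi.single j 1 ⊗ₜ q j
  have hfx : f.rTensor _ x' = ∑ j, m j ⊗ₜ[R] q j := by
    simp [x', f, map_sum, Fintype.linearCombination_apply_single]
  obtain ⟨Q, _, _, _, g, hg⟩ := H k f
  rw [← hfx]
  refine LinearMap.mem_ker.1 ?_
  rw [hg, LinearMap.mem_ker]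
  apply piRightHom_bijective_of_finitePresentation.1
  funext i
  rw [piRightHom_rTensor, map_zero, Pi.zero_apply, ← LinearMap.mem_ker, ← hg, LinearMap.mem_ker,
    ← piRightHom_rTensor, hfx, hx]
  rfl

section Flat

variable [Module.Flat R M]

theorem rTensor_range_inf_iInf (hM : IsMittagLeffler R M) {F : Type u} [AddCommGroup F] [Module R F]
    {ι : Type u} (p : ι → Submodule R F) (x : F ⊗[R] M)
    (hx : ∀ j, x ∈ LinearMap.range ((p j).subtype.rTensor M)) :
    x ∈ LinearMap.range ((⨅ j, p j).subtype.rTensor M) := by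
  let φ : F →ₗ[R] (∀ j, F ⧸ p j) := LinearMap.pi fun j => (p j).mkQ
  have hφ : LinearMap.ker φ = ⨅ j, p j := by simp [φ, LinearMap.ker_pi]
  have hex : Function.Exact (⨅ j, p j).subtype φ := by
    rw [LinearMap.exact_iff, Submodule.range_subtype, hφ]
  refine ((Module.Flat.rTensor_exact M hex) x).1 ?_
  apply (TensorProduct.comm R (∀ j, F ⧸ p j) M).injective
  rw [map_zero]
  refine hM ι (fun j => F ⧸ p j) (funext fun j => ?_)
  obtain ⟨w, hw⟩ := hx j
  rw [piRightHom_apply', map_zero, Pi.zero_apply]
  have : ∀ z : (∀ j, F ⧸ p j) ⊗[R] M, (LinearMap.proj (R := R) (φ := fun j => F ⧸ p j) j).lTensor M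
      (TensorProduct.comm R _ M z) = TensorProduct.comm R _ M
        ((LinearMap.proj (R := R) (φ := fun j => F ⧸ p j) j).rTensor M z) := fun z => by
    induction z with
    | zero => simp
    | add a b ha hb => simp [ha, hb]
    | tmul a b => simp
  rw [this, ← LinearMap.rTensor_comp_apply, LinearMap.proj_pi, ← hw, ← LinearMap.rTensor_comp_apply,
    LinearMap.exact_subtype_mkQ (p j) |>.linearMap_comp_eq_zero, LinearMap.rTensor_zero,
    LinearMap.zero_apply, map_zero]

omit [Module.Flat R M] in
theorem exists_fg_mem_range {F : Type u} [AddCommGroup F] [Module R F] (x : F ⊗[R] M) :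
    ∃ p : Submodule R F, p.FG ∧ x ∈ LinearMap.range (p.subtype.rTensor M) := by
  obtain ⟨k, a, m, rfl⟩ := TensorProduct.exists_sum_tmul_eq x
  refine ⟨Submodule.span R (Set.range a), Submodule.fg_span (Set.finite_range a),
    ⟨∑ j, ⟨a j, Submodule.subset_span ⟨j, rfl⟩⟩ ⊗ₜ m j, by simp [map_sum]⟩⟩

theorem exists_smallest (hM : IsMittagLeffler R M) {F : Type u} [AddCommGroup F] [Module R F]
    (x : F ⊗[R] M) :
    ∃ F' : Submodule R F, F'.FG ∧ x ∈ LinearMap.range (F'.subtype.rTensor M) ∧
      ∀ F'' : Submodule R F, x ∈ LinearMap.range (F''.subtype.rTensor M) → F' ≤ F'' := by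
  let ι := {p : Submodule R F // x ∈ LinearMap.range (p.subtype.rTensor M)}
  let F' : Submodule R F := ⨅ j : ι, j.1
  have hmem : x ∈ LinearMap.range (F'.subtype.rTensor M) :=
    rTensor_range_inf_iInf hM (fun j : ι => j.1) x fun j => j.2
  have hmin : ∀ F'' : Submodule R F, x ∈ LinearMap.range (F''.subtype.rTensor M) → F' ≤ F'' :=
    fun F'' h => iInf_le (fun j : ι => j.1) ⟨F'', h⟩
  refine ⟨F', ?_, hmem, hmin⟩
  obtain ⟨w, hw⟩ := hmem
  obtain ⟨p, hp, v, hv⟩ := exists_fg_mem_range w
  have h1 : F' ≤ p.map F'.subtype := by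
    refine hmin _ ⟨(F'.subtype.submoduleMap p).rTensor M v, ?_⟩
    rw [← LinearMap.rTensor_comp_apply, ← hw, ← hv, ← LinearMap.rTensor_comp_apply]
    rfl
  rw [le_antisymm h1 (Submodule.map_subtype_le F' p)]
  exact hp.map _

theorem isMittagLeffler_of_exists_smallest
    (H : ∀ (n : ℕ) (x : (Fin n → R) ⊗[R] M), ∃ F' : Submodule R (Fin n → R),
      x ∈ LinearMap.range (F'.subtype.rTensor M) ∧
      ∀ F'' : Submodule R (Fin n → R), x ∈ LinearMap.range (F''.subtype.rTensor M) → F' ≤ F'') :
    IsMittagLeffler R M := by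
  intro ι T _ _
  refine (injective_iff_map_eq_zero _).2 fun x hx => ?_
  obtain ⟨k, m, q, rfl⟩ := TensorProduct.exists_sum_tmul_eq x
  let X : (Fin k → R) ⊗[R] M := ∑ j, Pi.single j 1 ⊗ₜ m j
  let φ : (Fin k → R) →ₗ[R] (∀ i, T i) := Fintype.linearCombination R q
  obtain ⟨F', hmem, hmin⟩ := H k X
  have hle : F' ≤ LinearMap.ker φ := by
    intro v hv
    rw [LinearMap.mem_ker]
    funext i
    refine LinearMap.mem_ker.1 (?_ : v ∈ LinearMap.ker (LinearMap.proj (R := R) (φ := T) i ∘ₗ φ))
    refine hmin _ ?_ hv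
    refine ((Module.Flat.rTensor_exact M (LinearMap.exact_subtype_ker_map _)) X).1 ?_
    apply (TensorProduct.comm R (T i) M).injective
    rw [map_zero]
    have := congrFun hx i
    rw [piRightHom_apply', Pi.zero_apply] at this
    rw [← this]
    simp [X, φ, map_sum, Fintype.linearCombination_apply_single]
  obtain ⟨w, hw⟩ := hmem
  have h0 : φ.rTensor M X = 0 := by
    rw [← hw, ← LinearMap.rTensor_comp_apply,
      show φ ∘ₗ F'.subtype = 0 from LinearMap.ext fun v => hle v.2, LinearMap.rTensor_zero,
      LinearMap.zero_apply]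
  have := congrArg (TensorProduct.comm R (∀ i, T i) M) h0
  rw [map_zero] at this
  rw [← this]
  simp [X, φ, map_sum, Fintype.linearCombination_apply_single]

end Flat

section DirectSum

variable {ι : Type u} (A : ι → Type u) [∀ i, AddCommGroup (A i)] [∀ i, Module R (A i)]

theorem isMittagLeffler_of_retract {N : Type u} [AddCommGroup N] [Module R N] (i : M →ₗ[R] N)
    (r : N →ₗ[R] M) (h : r ∘ₗ i = LinearMap.id) (hN : IsMittagLeffler R N) : IsMittagLeffler R M := by
  intro κ T _ _
  refine (injective_iff_map_eq_zero _).2 fun x hx => ?_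
  have h1 : i.rTensor _ x = 0 := hN κ T (funext fun j => by rw [piRightHom_rTensor, hx]; simp)
  have := congrArg (r.rTensor _) h1
  rwa [← LinearMap.rTensor_comp_apply, h, LinearMap.rTensor_id_apply, map_zero] at this

theorem isMittagLeffler_directSum_iff :
    IsMittagLeffler R (DirectSum ι A) ↔ ∀ i, IsMittagLeffler R (A i) := by
  classical
  refine ⟨fun h i => isMittagLeffler_of_retract (DirectSum.lof R ι A i) (DirectSum.component R ι A i)
    (LinearMap.ext fun a => DirectSum.component.lof_self R i a) h, fun h => ?_⟩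
  intro κ T _ _
  refine (injective_iff_map_eq_zero _).2 fun x hx => ?_
  apply (TensorProduct.directSumLeft R R A (∀ j, T j)).injective
  rw [map_zero]
  refine DFinsupp.ext fun i => ?_
  have h1 : ∀ z : DirectSum ι A ⊗[R] (∀ j, T j), (DirectSum.component R ι A i).rTensor _ z =
      DirectSum.component R ι (fun i => A i ⊗[R] (∀ j, T j)) i
        (TensorProduct.directSumLeft R R A (∀ j, T j) z) := by
    intro z
    induction z with
    | zero => simp
    | add a b ha hb => simp [ha, hb]
    | tmul a q =>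
      induction a using DirectSum.induction_on with
      | zero => simp
      | add a b ha hb => simp [add_tmul, ha, hb]
      | of k a =>
        rw [← DirectSum.lof_eq_of R, TensorProduct.directSumLeft_tmul_lof]
        by_cases hk : k = i
        · subst hk; simp
        · simp [DirectSum.component.of, hk]
  refine ((h1 x).symm.trans ?_)
  exact h i κ T (funext fun j => by rw [piRightHom_rTensor, hx]; simp)

end DirectSum

theorem isMittagLeffler_self : IsMittagLeffler R R := isMittagLeffler_of_finitePresentation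

theorem isMittagLeffler_of_projective [Module.Projective R M] : IsMittagLeffler R M := by
  classical
  obtain ⟨s, hs⟩ := (Module.projective_def' (R := R) (P := M)).1 ‹_›
  refine isMittagLeffler_of_retract ((finsuppLEquivDirectSum R R M).toLinearMap ∘ₗ s)
    (Finsupp.linearCombination R id ∘ₗ (finsuppLEquivDirectSum R R M).symm.toLinearMap) ?_
    ((isMittagLeffler_directSum_iff _).2 fun _ => isMittagLeffler_self)
  rw [LinearMap.comp_assoc, ← LinearMap.comp_assoc _ _ (finsuppLEquivDirectSum R R M).symm.toLinearMap,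
    LinearEquiv.comp_coe, LinearEquiv.self_trans_symm, LinearEquiv.refl_toLinearMap, LinearMap.id_comp, hs]

theorem flat_pi [IsNoetherianRing R] (A : Type u) : Module.Flat R (A → R) := by
  refine Module.Flat.iff_lTensor_injective.2 fun I hI => ?_
  haveI : Module.FinitePresentation R I := Module.finitePresentation_of_finite R I
  refine (injective_iff_map_eq_zero _).2 fun x hx => ?_
  apply (TensorProduct.comm R (A → R) I).injective
  rw [map_zero]
  apply piRightHom_bijective_of_finitePresentation.1
  funext a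
  rw [map_zero, Pi.zero_apply]
  apply (TensorProduct.rid R I).injective
  rw [map_zero]
  apply Subtype.val_injective
  have h : ∀ z : (A → R) ⊗[R] I, ((TensorProduct.rid R I)
      (piRightHom R R I (fun _ : A => R) (TensorProduct.comm R (A → R) I z) a) : R) =
      (TensorProduct.rid R (A → R) (LinearMap.lTensor (A → R) I.subtype z)) a := by
    intro z
    induction z with
    | zero => simp
    | add u v hu hv => simp [hu, hv]
    | tmul f i => simp [mul_comm]
  rw [h, hx]
  simp

theorem isMittagLeffler_pi [IsNoetherianRing R] (A : Type u) : IsMittagLeffler R (A → R) := by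
  haveI := flat_pi (R := R) A
  refine isMittagLeffler_of_exists_smallest fun n x => ?_
  let E : ∀ F : Type u, ∀ [AddCommGroup F] [Module R F], F ⊗[R] (A → R) →ₗ[R] (A → F) :=
    fun F _ _ => (LinearMap.pi fun a => (TensorProduct.rid R F).toLinearMap ∘ₗ
      LinearMap.proj a) ∘ₗ piRightHom R R F (fun _ : A => R)
  have hE : ∀ (F : Type u) [AddCommGroup F] [Module R F] [Module.FinitePresentation R F],
      Function.Bijective (E F) := by
    intro F _ _ _
    exact (Function.Bijective.piMap fun a => (TensorProduct.rid R F).bijective).comp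
      piRightHom_bijective_of_finitePresentation
  have hnat : ∀ (F : Submodule R (Fin n → R)) (z : F ⊗[R] (A → R)) (a : A),
      E (Fin n → R) (F.subtype.rTensor _ z) a = (E F z a : Fin n → R) := by
    intro F z a
    induction z with
    | zero => simp
    | add u v hu hv => simp [hu, hv]
    | tmul f i => simp [E]
  let F' : Submodule R (Fin n → R) := Submodule.span R (Set.range (E _ x))
  haveI : Module.FinitePresentation R F' := Module.finitePresentation_of_finite R F'
  obtain ⟨w, hw⟩ := (hE F').2 fun a => ⟨E _ x a, Submodule.subset_span ⟨a, rfl⟩⟩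
  refine ⟨F', ⟨w, (hE _).1 (funext fun a => ?_)⟩, fun F'' ⟨w', hw'⟩ => ?_⟩
  · rw [hnat, hw]
  · rw [Submodule.span_le]
    rintro _ ⟨a, rfl⟩
    rw [← hw', hnat]
    exact (E F'' w' a).2

end Groth.Agent.CAlgML
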