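import Mathlib
import Groth.Agent.CAlgML.ML
import Groth.Agent.S6359

/-!
Countably generated Mittag-Leffler modules.
-/

namespace Groth.Agent.CAlgML

open TensorProduct CAlg

universe u

variable {R : Type u} [CommRing R] {M : Type u} [AddCommGroup M] [Module R M]

/-- A finitely presented module over `M`, projective when `M` is flat. -/
structure Stage (R : Type u) [CommRing R] (M : Type u) [AddCommGroup M] [Module R M] where
  Q : Type u
  [acg : AddCommGroup Q]
  [mod : Module R Q]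
  fp : Module.FinitePresentation R Q
  proj : Module.Flat R M → Module.Projective R Q
  h : Q →ₗ[R] M

attribute [instance] Stage.acg Stage.mod Stage.fp

theorem exists_stage_step (hM : IsMittagLeffler R M) {P : Type u} [AddCommGroup P] [Module R P]
    [Module.FinitePresentation R P] (φ : P →ₗ[R] M) (m : M) :
    ∃ (S : Stage R M) (g : P →ₗ[R] S.Q), φ = S.h ∘ₗ g ∧ m ∈ LinearMap.range S.h ∧
      ∀ (N : Type u) [AddCommGroup N] [Module R N],
        LinearMap.ker (φ.rTensor N) ≤ LinearMap.ker (g.rTensor N) := by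
  obtain ⟨Q, _, _, _, g, h, hgh, hker⟩ := exists_dominating hM φ
  obtain ⟨Q', i1, i2, i3, hp, a, b, hab⟩ : ∃ (Q' : Type u) (_ : AddCommGroup Q') (_ : Module R Q')
      (_ : Module.FinitePresentation R Q') (_ : Module.Flat R M → Module.Projective R Q')
      (a : Q →ₗ[R] Q') (b : Q' →ₗ[R] M), h = b ∘ₗ a := by
    by_cases hF : Module.Flat R M
    · obtain ⟨k, a, b, hab⟩ := Module.Flat.exists_factorization_of_finitePresentation h
      exact ⟨Fin k →₀ R, inferInstance, inferInstance, inferInstance, fun _ => inferInstance, a, b, hab⟩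
    · exact ⟨Q, inferInstance, inferInstance, inferInstance, fun h' => absurd h' hF, LinearMap.id, h,
        rfl⟩
  refine ⟨⟨Q' × R, inferInstance, fun hF => by haveI := hp hF; infer_instance,
    b.coprod (LinearMap.toSpanSingleton R M m)⟩, LinearMap.inl R Q' R ∘ₗ a ∘ₗ g, ?_, ⟨(0, 1), by simp⟩,
    fun N _ _ y hy => ?_⟩
  · ext p
    simp [hgh, hab]
  · rw [hker, LinearMap.mem_ker] at hy
    rw [LinearMap.mem_ker, ← LinearMap.comp_assoc, LinearMap.rTensor_comp_apply, hy, map_zero]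

variable (R M) in
/-- A sequence of finitely presented modules exhausting a countably generated Mittag-Leffler module. -/
structure Chain where
  S : ℕ → Stage R M
  g : ∀ n, (S n).Q →ₗ[R] (S (n + 1)).Q
  comm : ∀ n, (S n).h = (S (n + 1)).h ∘ₗ g n
  ker_le : ∀ n (N : Type u) [AddCommGroup N] [Module R N],
    LinearMap.ker ((S n).h.rTensor N) ≤ LinearMap.ker ((g n).rTensor N)
  surj : ∀ m : M, ∃ n q, (S n).h q = m

theorem exists_chain (hM : IsMittagLeffler R M) (hc : IsCountablyGenerated R M) {P : Type u}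
    [AddCommGroup P] [Module R P] [Module.FinitePresentation R P] (φ : P →ₗ[R] M) :
    ∃ (C : Chain R M) (a : P →ₗ[R] (C.S 0).Q), φ = (C.S 0).h ∘ₗ a := by
  classical
  obtain ⟨s, hs, hspan⟩ := hc
  obtain ⟨e, he⟩ : ∃ e : ℕ → M, s ⊆ Set.range e := by
    rcases s.eq_empty_or_nonempty with h | h
    · exact ⟨fun _ => 0, by simp [h]⟩
    · obtain ⟨e, he⟩ := hs.exists_eq_range h
      exact ⟨e, he.le⟩
  obtain ⟨S₀, a, ha, -, -⟩ := exists_stage_step hM φ 0
  choose next gn hgn hmem hker using fun (T : Stage R M) (m : M) => exists_stage_step hM T.h m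
  let S : ℕ → Stage R M := fun n => Nat.rec (motive := fun _ => Stage R M) S₀ (fun k T => next T (e k)) n
  refine ⟨⟨S, fun n => gn (S n) (e n), fun n => hgn (S n) (e n), fun n N _ _ => hker (S n) (e n) N,
    ?_⟩, a, ha⟩
  let ρ : ℕ → Submodule R M := fun n => LinearMap.range ((S n).h : (S n).Q →ₗ[R] M)
  have hmono : ∀ n k : ℕ, ρ n ≤ ρ (n + k) := by
    intro n k
    induction k with
    | zero => exact le_rfl
    | succ k ih =>
      refine ih.trans ?_
      show LinearMap.range (S (n + k)).h ≤ _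
      rw [hgn (S (n + k)) (e (n + k))]
      exact LinearMap.range_comp_le_range _ _
  intro m
  have hm : m ∈ ⨆ n, ρ n := by
    have : Submodule.span R s ≤ ⨆ n, ρ n := by
      rw [Submodule.span_le]
      intro x hx
      obtain ⟨n, rfl⟩ := he hx
      exact le_iSup ρ (n + 1) (hmem (S n) (e n))
    exact this (hspan ▸ Submodule.mem_top)
  rw [Submodule.mem_iSup_of_directed _ (fun i j => ⟨max i j,
    by simpa [Nat.add_sub_cancel' (le_max_left i j)] using hmono i (max i j - i),
    by simpa [Nat.add_sub_cancel' (le_max_right i j)] using hmono j (max i j - j)⟩)] at hm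
  obtain ⟨n, q, hq⟩ := hm
  exact ⟨n, q, hq⟩

namespace Chain

variable (C : Chain R M)

theorem g_eq_zero {n : ℕ} {q : (C.S n).Q} (h : (C.S n).h q = 0) : C.g n q = 0 := by
  have h1 : q ⊗ₜ[R] (1 : R) ∈ LinearMap.ker ((C.S n).h.rTensor R) := by simp [h]
  have h2 := LinearMap.mem_ker.1 (C.ker_le n R h1)
  simpa using congrArg (TensorProduct.rid R _) h2

theorem exists_retraction (n : ℕ) :
    ∃ t : (C.S (n + 2)).Q →ₗ[R] (C.S (n + 1)).Q, C.g n = t ∘ₗ C.g (n + 1) ∘ₗ C.g n := by
  haveI : Module.FinitePresentation R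
      ((C.S (n + 2)).Q ⧸ LinearMap.range (C.g (n + 1) ∘ₗ C.g n)) :=
    Module.finitePresentation_of_surjective (Submodule.mkQ _) (Submodule.mkQ_surjective _)
      (by rw [Submodule.ker_mkQ, LinearMap.range_eq_map]; exact Submodule.FG.map _ Module.Finite.fg_top)
  refine (Groth.Agent.S6359.result R _ _).1 fun N _ _ y hy => C.ker_le n N ?_
  rw [LinearMap.mem_ker] at hy ⊢
  rw [C.comm n, C.comm (n + 1), LinearMap.comp_assoc, LinearMap.rTensor_comp_apply, hy, map_zero]

theorem exists_desc {N : Type u} [AddCommGroup N] [Module R N] (w : ∀ n, (C.S n).Q →ₗ[R] N)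
    (hw : ∀ n, w (n + 1) ∘ₗ C.g n = w n) : ∃ a : M →ₗ[R] N, ∀ n, a ∘ₗ (C.S n).h = w n := by
  have push : ∀ n k (q : (C.S n).Q), ∃ q' : (C.S (n + k)).Q,
      (C.S (n + k)).h q' = (C.S n).h q ∧ w (n + k) q' = w n q := by
    intro n k
    induction k with
    | zero => exact fun q => ⟨q, rfl, rfl⟩
    | succ k ih =>
      intro q
      obtain ⟨q', h1, h2⟩ := ih q
      exact ⟨C.g (n + k) q', by rw [← h1, C.comm (n + k)]; rfl,
        (LinearMap.congr_fun (hw (n + k)) q').trans h2⟩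
  have push' : ∀ {n m : ℕ}, n ≤ m → ∀ q : (C.S n).Q, ∃ q' : (C.S m).Q,
      (C.S m).h q' = (C.S n).h q ∧ w m q' = w n q := by
    intro n m hnm
    obtain ⟨k, rfl⟩ := Nat.exists_eq_add_of_le hnm
    exact push n k
  have wd : ∀ n m (q : (C.S n).Q) (q' : (C.S m).Q), (C.S n).h q = (C.S m).h q' → w n q = w m q' := by
    intro n m q q' h
    obtain ⟨a, ha, ha'⟩ := push' (le_max_left n m) q
    obtain ⟨b, hb, hb'⟩ := push' (le_max_right n m) q'
    rw [← ha', ← hb', ← sub_eq_zero, ← map_sub, ← hw, LinearMap.comp_apply,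
      C.g_eq_zero (by rw [map_sub, ha, hb, h, sub_self]), map_zero]
  choose N₀ q₀ hq₀ using C.surj
  refine ⟨{ toFun := fun m => w (N₀ m) (q₀ m), map_add' := fun x y => ?_, map_smul' := fun r x => ?_ },
    fun n => LinearMap.ext fun q => ?_⟩
  · obtain ⟨a, ha, ha'⟩ := push' (le_max_left (N₀ x) (N₀ y)) (q₀ x)
    obtain ⟨b, hb, hb'⟩ := push' (le_max_right (N₀ x) (N₀ y)) (q₀ y)
    rw [← ha', ← hb', ← map_add]
    exact wd _ _ _ _ (by rw [hq₀, map_add, ha, hb, hq₀, hq₀])
  · rw [RingHom.id_apply, ← map_smul]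
    exact wd _ _ _ _ (by rw [hq₀, map_smul, hq₀])
  · exact wd _ _ _ _ (hq₀ _)

theorem exists_compatible : ∃ a : M →ₗ[R] (C.S 1).Q, a ∘ₗ (C.S 0).h = C.g 0 := by
  choose t ht using C.exists_retraction
  let v : ∀ n, (C.S (n + 1)).Q →ₗ[R] (C.S 1).Q := fun n =>
    Nat.rec (motive := fun n => (C.S (n + 1)).Q →ₗ[R] (C.S 1).Q) LinearMap.id (fun k vk => vk ∘ₗ t k) n
  obtain ⟨a, ha⟩ := C.exists_desc (fun n => v n ∘ₗ C.g n) fun n => by
    show (v n ∘ₗ t n) ∘ₗ C.g (n + 1) ∘ₗ C.g n = v n ∘ₗ C.g n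
    rw [LinearMap.comp_assoc, ← ht n]
  exact ⟨a, (ha 0).trans (LinearMap.id_comp _)⟩

include C in
theorem exists_section [Module.Flat R M] {F : Type u} [AddCommGroup F] [Module R F]
    (p : F →ₗ[R] M) (hp : Function.Surjective p) : ∃ s : M →ₗ[R] F, p ∘ₗ s = LinearMap.id := by
  haveI : ∀ n, Module.Projective R (C.S n).Q := fun n => (C.S n).proj ‹_›
  choose l hl using fun n => Module.projective_lifting_property p (C.S n).h hp
  choose t ht using C.exists_retraction
  let step : ∀ n, ((C.S (n + 1)).Q →ₗ[R] F) → (C.S (n + 2)).Q →ₗ[R] F := fun n v =>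
    l (n + 2) + (v - l (n + 2) ∘ₗ C.g (n + 1)) ∘ₗ t n
  let v : ∀ n, (C.S (n + 1)).Q →ₗ[R] F := fun n =>
    Nat.rec (motive := fun n => (C.S (n + 1)).Q →ₗ[R] F) (l 1) step n
  have hv : ∀ n, p ∘ₗ v n = (C.S (n + 1)).h := by
    intro n
    induction n with
    | zero => exact hl 1
    | succ n ih =>
      show p ∘ₗ step n (v n) = _
      simp only [step, LinearMap.comp_add, ← LinearMap.comp_assoc, LinearMap.comp_sub, ih, hl]
      rw [← C.comm (n + 1), sub_self, LinearMap.zero_comp, add_zero]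
  obtain ⟨a, ha⟩ := C.exists_desc (fun n => v n ∘ₗ C.g n) fun n => by
    show step n (v n) ∘ₗ C.g (n + 1) ∘ₗ C.g n = v n ∘ₗ C.g n
    ext q
    have h1 : t n (C.g (n + 1) (C.g n q)) = C.g n q := (LinearMap.congr_fun (ht n) q).symm
    simp [step, h1]
  refine ⟨a, LinearMap.ext fun m => ?_⟩
  obtain ⟨n, q, rfl⟩ := C.surj m
  have := LinearMap.congr_fun (ha n) q
  rw [LinearMap.comp_apply] at this ⊢
  rw [this, LinearMap.comp_apply, ← LinearMap.comp_apply p, hv, LinearMap.id_apply]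
  exact (LinearMap.congr_fun (C.comm n) q).symm

end Chain

theorem projective_of_flat_of_countablyGenerated [Module.Flat R M] (hM : IsMittagLeffler R M)
    (hc : IsCountablyGenerated R M) : Module.Projective R M := by
  obtain ⟨C, -, -⟩ := exists_chain hM hc (0 : R →ₗ[R] M)
  obtain ⟨s, hs⟩ := C.exists_section (Finsupp.linearCombination R (id : M → M))
    (fun m => ⟨Finsupp.single m 1, by simp⟩)
  exact Module.Projective.of_split s _ hs

theorem exists_endo_factor (hM : IsMittagLeffler R M) (hc : IsCountablyGenerated R M) {P : Type u}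
    [AddCommGroup P] [Module R P] [Module.Finite R P] (f : P →ₗ[R] M) :
    ∃ (Q : Type u) (_ : AddCommGroup Q) (_ : Module R Q) (_ : Module.FinitePresentation R Q)
      (b : M →ₗ[R] Q) (c : Q →ₗ[R] M), (c ∘ₗ b) ∘ₗ f = f := by
  obtain ⟨n, π, hπ⟩ := Module.Finite.exists_fin' R P
  obtain ⟨C, a, ha⟩ := exists_chain hM hc (f ∘ₗ π)
  obtain ⟨b, hb⟩ := C.exists_compatible
  refine ⟨(C.S 1).Q, inferInstance, inferInstance, (C.S 1).fp, b, (C.S 1).h, LinearMap.ext fun x => ?_⟩
  obtain ⟨v, rfl⟩ := hπ x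
  have h1 : f (π v) = (C.S 0).h (a v) := LinearMap.congr_fun ha v
  rw [LinearMap.comp_apply, LinearMap.comp_apply, h1, ← LinearMap.comp_apply b, hb]
  exact (LinearMap.congr_fun (C.comm 0) _).symm

end Groth.Agent.CAlgML
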