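import Mathlib
import Groth.Agent.CAlgML.ML
import Groth.Agent.CAlgML.Seq
import Groth.Agent.CAlgML.LocalFree

/-!
Faithfully flat descent of the Mittag-Leffler property and of projectivity.
-/

namespace Groth.Agent.CAlgML

open TensorProduct CAlg

universe u

variable {R : Type u} [CommRing R] {M : Type u} [AddCommGroup M] [Module R M]
variable (S : Type u) [CommRing S] [Algebra R S]

/-- Simultaneous version of `exists_factor_rTensor_eq_zero`, tensoring on the left. -/
theorem exists_factor_lTensor_eq_zero {P : Type u} [AddCommGroup P] [Module R P]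
    [Module.FinitePresentation R P] (f : P →ₗ[R] M) {Q : Type u} [AddCommGroup Q] [Module R Q]
    (t : Finset (Q ⊗[R] P)) (ht : ∀ x ∈ t, f.lTensor Q x = 0) :
    ∃ (P' : Type u) (_ : AddCommGroup P') (_ : Module R P') (_ : Module.FinitePresentation R P')
      (f' : P →ₗ[R] P') (h : P' →ₗ[R] M), f = h ∘ₗ f' ∧ ∀ x ∈ t, f'.lTensor Q x = 0 := by
  classical
  induction t using Finset.induction_on with
  | empty => exact ⟨P, inferInstance, inferInstance, inferInstance, LinearMap.id, f, rfl, by simp⟩
  | insert a t _ ih =>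
    obtain ⟨P', _, _, _, f', h, hf, h0⟩ := ih fun x hx => ht x (Finset.mem_insert_of_mem hx)
    have hc : ∀ {A B : Type u} [AddCommGroup A] [Module R A] [AddCommGroup B] [Module R B]
        (φ : A →ₗ[R] B) (z : Q ⊗[R] A),
        φ.rTensor Q (TensorProduct.comm R Q A z) = TensorProduct.comm R Q B (φ.lTensor Q z) :=
      fun φ z => by
        induction z with
        | zero => simp
        | add a b ha hb => simp [ha, hb]
        | tmul a b => simp
    obtain ⟨P'', _, _, _, f'', h', hh, h1⟩ := exists_factor_rTensor_eq_zero h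
      (TensorProduct.comm R Q P' (f'.lTensor Q a)) (by
        rw [hc, ← LinearMap.lTensor_comp_apply, ← hf, ht a (Finset.mem_insert_self a t), map_zero])
    refine ⟨P'', inferInstance, inferInstance, inferInstance, f'' ∘ₗ f', h',
      by rw [← LinearMap.comp_assoc, ← hh, hf], fun x hx => ?_⟩
    rw [LinearMap.lTensor_comp_apply]
    rcases Finset.mem_insert.1 hx with rfl | hx
    · rw [hc] at h1
      exact (LinearEquiv.map_eq_zero_iff _).1 h1
    · rw [h0 x hx, map_zero]

theorem isMittagLeffler_of_faithfullyFlat [Module.FaithfullyFlat R S]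
    (hM : IsMittagLeffler S (S ⊗[R] M)) : IsMittagLeffler R M := by
  classical
  refine isMittagLeffler_of_dominating fun n f => ?_
  obtain ⟨Q, _, _, _, g, h, hgh, hker⟩ := exists_dominating hM (f.baseChange S)
  obtain ⟨p, K, e, hK⟩ := Module.FinitePresentation.exists_fin S Q
  obtain ⟨gens, hgens⟩ := hK
  let q : (Fin p → S) →ₗ[S] Q := e.symm.toLinearMap ∘ₗ K.mkQ
  have hq : Function.Surjective q := e.symm.surjective.comp K.mkQ_surjective
  choose k s m hsm using fun a : Fin p => TensorProduct.exists_sum_tmul_eq (h (q (Pi.single a 1)))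
  choose γ hγ using fun i : Fin n => hq (g (1 ⊗ₜ Pi.single i 1))
  let L := (Fin n → R) × (∀ a : Fin p, Fin (k a) → R)
  let F : L →ₗ[R] M := f.coprod (∑ a, Fintype.linearCombination R (m a) ∘ₗ
    LinearMap.proj (R := R) (φ := fun a : Fin p => Fin (k a) → R) a)
  let Ψ : (Fin p → S) →ₗ[S] S ⊗[R] L := Fintype.linearCombination S fun a =>
    ∑ j, s a j ⊗ₜ[R] ((0 : Fin n → R), Pi.single a (Pi.single j (1 : R)))
  have hFΨ : F.baseChange S ∘ₗ Ψ = h ∘ₗ q := by
    refine (Pi.basisFun S (Fin p)).ext fun a => ?_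
    rw [Pi.basisFun_apply, LinearMap.comp_apply, LinearMap.comp_apply,
      Fintype.linearCombination_apply_single, one_smul, map_sum, hsm]
    refine Finset.sum_congr rfl fun j _ => ?_
    rw [LinearMap.baseChange_tmul]
    congr 1
    simp only [F]
    rw [LinearMap.coprod_apply, map_zero, zero_add, LinearMap.sum_apply,
      Finset.sum_eq_single a (fun b _ hb => by
        show Fintype.linearCombination R (m b) ((Pi.single a (Pi.single j (1 : R)) : ∀ a, Fin (k a) → R) b) = 0
        rw [Pi.single_eq_of_ne hb, map_zero])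
      (fun hh => absurd (Finset.mem_univ a) hh)]
    show Fintype.linearCombination R (m a) ((Pi.single a (Pi.single j (1 : R)) : ∀ a, Fin (k a) → R) a) = m a j
    rw [Pi.single_eq_same, Fintype.linearCombination_apply_single, one_smul]
  let T : Finset (S ⊗[R] L) := gens.image Ψ ∪
    Finset.univ.image fun i : Fin n => Ψ (γ i) - 1 ⊗ₜ[R] (Pi.single i 1, 0)
  obtain ⟨P', _, _, _, F', h', hF, hT⟩ := exists_factor_lTensor_eq_zero F T (fun x hx => by
    rw [← LinearMap.baseChange_eq_ltensor]
    rcases Finset.mem_union.1 hx with hx | hx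
    · obtain ⟨c, hc, rfl⟩ := Finset.mem_image.1 hx
      rw [← LinearMap.comp_apply, hFΨ, LinearMap.comp_apply]
      have : q c = 0 := by
        show e.symm (K.mkQ c) = 0
        rw [Submodule.mkQ_apply, (Submodule.Quotient.mk_eq_zero K).2 (hgens ▸ Submodule.subset_span hc),
          map_zero]
      rw [this, map_zero]
    · obtain ⟨i, -, rfl⟩ := Finset.mem_image.1 hx
      rw [map_sub, ← LinearMap.comp_apply (F.baseChange S), hFΨ, LinearMap.comp_apply, hγ,
        ← LinearMap.comp_apply h, ← hgh, LinearMap.baseChange_tmul, LinearMap.baseChange_tmul]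
      show (1 : S) ⊗ₜ[R] f (Pi.single i 1) - 1 ⊗ₜ[R] f.coprod _ (Pi.single i 1, 0) = 0
      rw [LinearMap.coprod_apply, map_zero, add_zero, sub_self])
  rw [← LinearMap.baseChange_eq_ltensor] at hT
  have hK' : K ≤ LinearMap.ker (F'.baseChange S ∘ₗ Ψ) := by
    rw [← hgens, Submodule.span_le]
    exact fun c hc => hT _ (Finset.mem_union_left _ (Finset.mem_image_of_mem _ hc))
  let θ : Q →ₗ[S] S ⊗[R] P' := K.liftQ _ hK' ∘ₗ e.toLinearMap
  let g₀ : (Fin n → R) →ₗ[R] P' := F' ∘ₗ LinearMap.inl R (Fin n → R) (∀ a : Fin p, Fin (k a) → R)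
  have hθ : θ ∘ₗ g = g₀.baseChange S := by
    refine (Algebra.TensorProduct.basis S (Pi.basisFun R (Fin n))).ext fun i => ?_
    rw [Algebra.TensorProduct.basis_apply, Pi.basisFun_apply, LinearMap.comp_apply, ← hγ,
      LinearMap.baseChange_tmul]
    have h1 := hT _ (Finset.mem_union_right _ (Finset.mem_image_of_mem _ (Finset.mem_univ i)))
    rw [map_sub, sub_eq_zero] at h1
    show K.liftQ _ hK' (e (e.symm (K.mkQ (γ i)))) = _
    rw [e.apply_symm_apply, Submodule.mkQ_apply, Submodule.liftQ_apply, LinearMap.comp_apply, h1,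
      LinearMap.baseChange_tmul]
    rfl
  refine ⟨P', inferInstance, inferInstance, inferInstance, g₀, fun N _ _ => le_antisymm ?_ ?_⟩
  · intro y hy
    rw [LinearMap.mem_ker] at hy ⊢
    apply Module.FaithfullyFlat.tensorProduct_mk_injective (A := R) (B := S) (P' ⊗[R] N)
    rw [map_zero]
    apply (AlgebraTensorModule.distribBaseChange R S P' N).injective
    rw [map_zero]
    have hnat : ∀ {A B : Type u} [AddCommGroup A] [Module R A] [AddCommGroup B] [Module R B]
        (φ : A →ₗ[R] B) (z : A ⊗[R] N),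
        (φ.baseChange S).rTensor (S ⊗[R] N) (AlgebraTensorModule.distribBaseChange R S A N (1 ⊗ₜ z)) =
          AlgebraTensorModule.distribBaseChange R S B N (1 ⊗ₜ φ.rTensor N z) := fun φ z => by
      induction z with
      | zero => simp
      | add a b ha hb => simp [tmul_add, ha, hb]
      | tmul a b => simp [AlgebraTensorModule.distribBaseChange_tmul]
    have h1 : AlgebraTensorModule.distribBaseChange R S (Fin n → R) N (1 ⊗ₜ y) ∈
        LinearMap.ker ((f.baseChange S).rTensor (S ⊗[R] N)) := by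
      rw [LinearMap.mem_ker, hnat, hy, tmul_zero, map_zero]
    rw [hker, LinearMap.mem_ker] at h1
    rw [TensorProduct.mk_apply, ← hnat, ← hθ, LinearMap.rTensor_comp_apply, h1, map_zero]
  · intro y hy
    rw [LinearMap.mem_ker] at hy ⊢
    have hfg : f = h' ∘ₗ g₀ := by
      rw [← LinearMap.comp_assoc, ← hF]
      refine LinearMap.ext fun v => ?_
      show f v = f.coprod _ (v, 0)
      rw [LinearMap.coprod_apply, map_zero, add_zero]
    rw [hfg, LinearMap.rTensor_comp_apply, hy, map_zero]

section Projective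

theorem projective_of_internal [Module.Flat R M] (hM : IsMittagLeffler R M) {ι : Type u}
    [DecidableEq ι] (N : ι → Submodule R M) (hN : DirectSum.IsInternal N)
    (hc : ∀ i, IsCountablyGenerated R (N i)) : Module.Projective R M := by
  let e := LinearEquiv.ofBijective (DirectSum.coeLinearMap N) hN
  haveI : ∀ i, Module.Projective R (N i) := fun i => by
    have hr : (DirectSum.component R ι (fun i => N i) i ∘ₗ e.symm.toLinearMap) ∘ₗ
        (e.toLinearMap ∘ₗ DirectSum.lof R ι (fun i => N i) i) = LinearMap.id :=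
      LinearMap.ext fun z => by simp
    haveI : Module.Flat R (N i) := Module.Flat.of_retract _ _ hr
    exact projective_of_flat_of_countablyGenerated (isMittagLeffler_of_retract _ _ hr hM) (hc i)
  exact Module.Projective.of_equiv e

variable {ι : Type u} {A : ι → Type u} [∀ i, AddCommGroup (A i)] [∀ i, Module S (A i)]

theorem supportedIn_iUnion {η : Type u} [Nonempty η] (J : η → Set ι) (hJ : Directed (· ⊆ ·) J) :
    supportedIn S A (⋃ z, J z) = ⨆ z, supportedIn S A (J z) := by
  classical
  refine le_antisymm (fun x hx => ?_) (iSup_le fun z => fun x hx =>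
    mem_supportedIn.2 fun i hi => mem_supportedIn.1 hx i fun h => hi (Set.mem_iUnion.2 ⟨z, h⟩))
  obtain ⟨z, hz⟩ := hJ.exists_mem_subset_of_finset_subset_biUnion (s := DFinsupp.support x) (fun i hi => by
    by_contra h
    exact DFinsupp.mem_support_iff.1 hi (mem_supportedIn.1 hx i h))
  refine Submodule.mem_iSup_of_mem z (mem_supportedIn.2 fun i hi => ?_)
  by_contra h
  exact hi (hz (DFinsupp.mem_support_iff.2 h))

theorem baseChange_iSup {η : Type u} (N : η → Submodule R M) :
    (⨆ z, N z).baseChange S = ⨆ z, (N z).baseChange S := by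
  refine le_antisymm ?_ (iSup_le fun z => Submodule.baseChange_mono S (le_iSup N z))
  rw [Submodule.baseChange_eq_span, Submodule.span_le]
  rintro _ ⟨m, hm, rfl⟩
  rw [SetLike.mem_coe] at hm
  induction hm using Submodule.iSup_induction' with
  | mem z y hy => exact Submodule.mem_iSup_of_mem z (Submodule.tmul_mem_baseChange_of_mem 1 hy)
  | zero => simp
  | add y y' _ _ h h' => simpa [tmul_add] using add_mem h h'

variable [Module.FaithfullyFlat R S]

theorem exists_decomposition_descent [Module.Projective S (S ⊗[R] M)] (e : DirectSum ι A ≃ₗ[S] S ⊗[R] M)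
    (hA : ∀ i, IsCountablyGenerated S (A i)) :
    ∃ 𝓛 : Set (Submodule R M), sSupIndep 𝓛 ∧ sSup 𝓛 = ⊤ ∧
      ∀ L ∈ 𝓛, IsCountablyGenerated R L := by
  classical
  choose s hs hspan using hA
  choose k cS cM hcM using fun (i : ι) (a : A i) =>
    TensorProduct.exists_sum_tmul_eq (e (DirectSum.lof S ι A i a))
  let C : Set (Set ι × Set (Submodule R M)) := {p |
    (sSup p.2).baseChange S = (supportedIn S A p.1).map e.toLinearMap ∧ sSupIndep p.2 ∧
      ∀ L ∈ p.2, IsCountablyGenerated R L}
  have hbot : (⟨∅, ∅⟩ : Set ι × Set (Submodule R M)) ∈ C := by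
    have h0 : supportedIn S A (∅ : Set ι) = ⊥ := by
      refine (Submodule.eq_bot_iff _).2 fun x hx => DFinsupp.ext fun i => ?_
      exact mem_supportedIn.1 hx i (Set.notMem_empty i)
    refine ⟨?_, sSupIndep_empty, fun L hL => absurd hL (Set.notMem_empty L)⟩
    show (sSup (∅ : Set (Submodule R M))).baseChange S = (supportedIn S A (∅ : Set ι)).map e.toLinearMap
    rw [h0, Submodule.map_bot, sSup_empty, Submodule.baseChange_bot]
  obtain ⟨p, -, hp, hmax⟩ := zorn_le_nonempty₀ C (fun c hcC hc q hq => by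
    refine ⟨⟨⋃ x : c, x.1.1, ⋃ x : c, x.1.2⟩, ?_, fun z hz => ⟨Set.subset_iUnion (fun x : c => x.1.1) ⟨z, hz⟩,
      Set.subset_iUnion (fun x : c => x.1.2) ⟨z, hz⟩⟩⟩
    haveI : Nonempty c := ⟨⟨q, hq⟩⟩
    have hdir := hc.directedOn.directed_val
    refine ⟨?_, sSupIndep_iUnion_of_directed (fun a b => by
      obtain ⟨v, h1, h2⟩ := hdir a b; exact ⟨v, h1.2, h2.2⟩) fun z => (hcC z.2).2.1, ?_⟩
    · show (sSup (⋃ x : c, x.1.2)).baseChange S = (supportedIn S A (⋃ x : c, x.1.1)).map e.toLinearMap
      rw [sSup_iUnion, baseChange_iSup, supportedIn_iUnion S _ (fun a b => by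
        obtain ⟨v, h1, h2⟩ := hdir a b; exact ⟨v, h1.1, h2.1⟩), Submodule.map_iSup]
      exact iSup_congr fun z => (hcC z.2).1
    · intro L hL
      obtain ⟨z, hzL⟩ := Set.mem_iUnion.1 hL
      exact (hcC z.2).2.2 L hzL) ⟨∅, ∅⟩ hbot
  obtain ⟨J, 𝓛⟩ := p
  obtain ⟨hW, hind, hcount⟩ := hp
  by_cases hJ : J = Set.univ
  · refine ⟨𝓛, hind, eq_top_iff.2 fun m _ => ?_, hcount⟩
    have h1 : (1 : S) ⊗ₜ[R] m ∈ (sSup 𝓛).baseChange S := by
      rw [hW]
      exact ⟨e.symm (1 ⊗ₜ m), mem_supportedIn.2 fun i hi => by simp [hJ] at hi, e.apply_symm_apply _⟩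
    obtain ⟨z, hz⟩ := h1
    refine (Submodule.Quotient.mk_eq_zero (sSup 𝓛)).1
      (Module.FaithfullyFlat.tensorProduct_mk_injective (A := R) (B := S) (M ⧸ sSup 𝓛) ?_)
    rw [map_zero, TensorProduct.mk_apply]
    show LinearMap.lTensor S (sSup 𝓛).mkQ ((1 : S) ⊗ₜ[R] m) = 0
    rw [← hz, LinearMap.baseChange_eq_ltensor, ← LinearMap.lTensor_comp_apply,
      (LinearMap.exact_subtype_mkQ (sSup 𝓛)).linearMap_comp_eq_zero, LinearMap.lTensor_zero,
      LinearMap.zero_apply]
  exfalso
  obtain ⟨i₀, hi₀⟩ := (Set.ne_univ_iff_exists_notMem J).1 hJ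
  let N : Submodule R M := sSup 𝓛
  obtain ⟨I, hI, hi₀I, hIcl⟩ := exists_countable_closed
    (fun i => ⋃ a ∈ s i, ⋃ j, ↑(DFinsupp.support (e.symm (1 ⊗ₜ[R] cM i a j))) : ι → Set ι)
    (fun i => (hs i).biUnion fun a _ => Set.countable_iUnion fun j => Finset.countable_toSet _) i₀
  let T : Set M := ⋃ i ∈ I, ⋃ a ∈ s i, Set.range (cM i a)
  have hTc : T.Countable := hI.biUnion fun i _ => (hs i).biUnion fun a _ => Set.countable_range _
  let N' : Submodule R M := N ⊔ Submodule.span R T
  let J' := J ∪ I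
  have hmono : supportedIn S A J ≤ supportedIn S A J' := fun x hx =>
    mem_supportedIn.2 fun i hi => mem_supportedIn.1 hx i fun h => hi (Or.inl h)
  have hW' : N'.baseChange S = (supportedIn S A J').map e.toLinearMap := by
    refine le_antisymm ?_ ?_
    · rw [Submodule.baseChange_eq_span, Submodule.span_le]
      rintro _ ⟨m, hm, rfl⟩
      obtain ⟨a, ha, b, hb, rfl⟩ := Submodule.mem_sup.1 hm
      rw [map_add]
      clear hm
      refine add_mem ?_ ?_
      · have := Submodule.tmul_mem_baseChange_of_mem (1 : S) ha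
        rw [hW] at this
        exact Submodule.map_mono hmono this
      · induction hb using Submodule.span_induction with
        | mem b hb =>
          obtain ⟨i, hi, hb⟩ := Set.mem_iUnion₂.1 hb
          obtain ⟨a', ha', j, rfl⟩ := Set.mem_iUnion₂.1 hb
          refine ⟨e.symm (1 ⊗ₜ cM i a' j), mem_supportedIn.2 fun l hl => ?_, e.apply_symm_apply _⟩
          by_contra h
          exact hl (Or.inr (hIcl i hi (Set.mem_biUnion ha' (Set.mem_iUnion.2 ⟨j, DFinsupp.mem_support_iff.2 h⟩))))
        | zero => simp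
        | add x y _ _ hx hy => simpa [tmul_add] using add_mem hx hy
        | smul c x _ hx =>
          rw [map_smul]
          exact Submodule.smul_of_tower_mem _ c hx
    · rintro _ ⟨x, hx, rfl⟩
      rw [← DFinsupp.sum_single (f := x), DFinsupp.sum, map_sum]
      refine Submodule.sum_mem _ fun i hi => ?_
      have hiu : i ∈ J' := by
        by_contra h
        exact DFinsupp.mem_support_iff.1 hi (mem_supportedIn.1 hx i h)
      rcases hiu with h | h
      · refine Submodule.baseChange_mono S (le_sup_left : N ≤ N') ?_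
        rw [hW]
        exact ⟨_, lof_mem_supportedIn h (x i), rfl⟩
      · have h2 : x i ∈ Submodule.span S (s i) := hspan i ▸ Submodule.mem_top
        have h3 : Submodule.span S (s i) ≤
            (N'.baseChange S).comap (e.toLinearMap ∘ₗ DirectSum.lof S ι A i) := by
          rw [Submodule.span_le]
          intro a ha
          show e (DirectSum.lof S ι A i a) ∈ N'.baseChange S
          rw [hcM]
          exact Submodule.sum_mem _ fun j _ => Submodule.tmul_mem_baseChange_of_mem _
            (Submodule.mem_sup_right (Submodule.subset_span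
              (Set.mem_biUnion h (Set.mem_biUnion ha ⟨j, rfl⟩))))
        exact h3 h2
  -- projectivity of the new piece
  let Np : Submodule R N' := N.comap N'.subtype
  let r : Set ι → (S ⊗[R] M →ₗ[S] S ⊗[R] M) := fun K =>
    e.toLinearMap ∘ₗ DFinsupp.filterLinearMap S A (· ∈ K) ∘ₗ e.symm.toLinearMap
  have hr_mem : ∀ K z, r K z ∈ (supportedIn S A K).map e.toLinearMap := fun K z =>
    ⟨_, mem_supportedIn.2 fun i hi => (DFinsupp.filter_apply _ i _).trans (if_neg hi), rfl⟩
  have hr_id : ∀ K, ∀ z ∈ (supportedIn S A K).map e.toLinearMap, r K z = z := by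
    rintro K _ ⟨x, hx, rfl⟩
    show e (DFinsupp.filter (· ∈ K) (e.symm (e x))) = e x
    rw [e.symm_apply_apply]
    congr 1
    refine DFinsupp.ext fun i => ?_
    rw [DFinsupp.filter_apply]
    split_ifs with h
    · rfl
    · exact (mem_supportedIn.1 hx i h).symm
  let ι' := N'.subtype.baseChange S
  have hι' : Function.Injective ι' :=
    Module.Flat.lTensor_preserves_injective_linearMap N'.subtype Subtype.val_injective
  have hPV : Module.Projective S (S ⊗[R] (N' ⧸ Np)) := by
    let φ : N' →ₗ[R] S ⊗[R] M :=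
      ((LinearMap.id - r J).restrictScalars R) ∘ₗ TensorProduct.mk R S M 1 ∘ₗ N'.subtype
    have hφ : Np ≤ LinearMap.ker φ := by
      intro n hn
      show (1 : S) ⊗ₜ[R] (n : M) - r J ((1 : S) ⊗ₜ[R] (n : M)) = 0
      rw [hr_id J, sub_self]
      rw [← hW]
      exact Submodule.tmul_mem_baseChange_of_mem _ hn
    let fV := (Np.liftQ φ hφ).liftBaseChange S
    let inv : S ⊗[R] M →ₗ[S] S ⊗[R] N' := (LinearEquiv.ofInjective ι' hι').symm.toLinearMap ∘ₗ
      (r J').codRestrict (LinearMap.range ι') (fun z => by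
        show r J' z ∈ N'.baseChange S
        rw [hW']
        exact hr_mem J' z)
    refine Module.Projective.of_split fV (Np.mkQ.baseChange S ∘ₗ inv) ?_
    refine AlgebraTensorModule.ext fun c v => ?_
    obtain ⟨n, rfl⟩ := Np.mkQ_surjective v
    have hmem : r J ((1 : S) ⊗ₜ[R] (n : M)) ∈ N.baseChange S := by rw [hW]; exact hr_mem _ _
    obtain ⟨w, hw⟩ := hmem
    let w' : S ⊗[R] N' := (Submodule.inclusion (le_sup_left : N ≤ N')).baseChange S w
    have hw' : Np.mkQ.baseChange S w' = 0 := by
      show Np.mkQ.lTensor S ((Submodule.inclusion (le_sup_left : N ≤ N')).lTensor S w) = 0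
      rw [← LinearMap.lTensor_comp_apply, show Np.mkQ ∘ₗ Submodule.inclusion (le_sup_left : N ≤ N') = 0 from
        LinearMap.ext fun a => (Submodule.Quotient.mk_eq_zero Np).2 a.2, LinearMap.lTensor_zero,
        LinearMap.zero_apply]
    have hz : ι' (1 ⊗ₜ n - w') = fV (1 ⊗ₜ Np.mkQ n) := by
      rw [map_sub]
      simp only [fV, LinearMap.liftBaseChange_tmul, one_smul, Submodule.mkQ_apply, Submodule.liftQ_apply]
      show (1 : S) ⊗ₜ[R] (n : M) - ι' w' = (1 : S) ⊗ₜ[R] (n : M) - r J ((1 : S) ⊗ₜ[R] (n : M))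
      congr 1
      rw [← hw]
      show N'.subtype.lTensor S ((Submodule.inclusion (le_sup_left : N ≤ N')).lTensor S w) = _
      rw [← LinearMap.lTensor_comp_apply, Submodule.subtype_comp_inclusion]
      rfl
    have hinv : inv (fV (1 ⊗ₜ Np.mkQ n)) = 1 ⊗ₜ n - w' := by
      rw [← hz]
      show (LinearEquiv.ofInjective ι' hι').symm _ = _
      rw [LinearEquiv.symm_apply_eq]
      refine Subtype.ext ?_
      show r J' (ι' (1 ⊗ₜ n - w')) = ι' (1 ⊗ₜ n - w')
      refine hr_id J' _ ?_
      rw [← hW']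
      exact ⟨_, rfl⟩
    have h1 : (Np.mkQ.baseChange S ∘ₗ inv) (fV (1 ⊗ₜ Np.mkQ n)) = 1 ⊗ₜ Np.mkQ n := by
      rw [LinearMap.comp_apply, hinv, map_sub, hw', sub_zero, LinearMap.baseChange_tmul]
    rw [LinearMap.id_apply, show c ⊗ₜ[R] Np.mkQ n = c • ((1 : S) ⊗ₜ[R] Np.mkQ n) by
      rw [smul_tmul', smul_eq_mul, mul_one], LinearMap.comp_apply, map_smul, map_smul]
    exact congrArg (c • ·) h1
  haveI := hPV
  haveI : Module.Flat R (N' ⧸ Np) := Module.Flat.of_flat_tensorProduct R (N' ⧸ Np) S
  have hVc : IsCountablyGenerated R (N' ⧸ Np) := by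
    refine ⟨Np.mkQ '' (Subtype.val ⁻¹' T), (hTc.preimage Subtype.val_injective).image _, ?_⟩
    rw [← Submodule.map_span, eq_top_iff]
    intro v _
    obtain ⟨⟨m, hm⟩, rfl⟩ := Np.mkQ_surjective v
    obtain ⟨a, ha, b, hb, hab⟩ := Submodule.mem_sup.1 hm
    have hb' : b ∈ (Submodule.span R (Subtype.val ⁻¹' T : Set N')).map N'.subtype := by
      rw [Submodule.map_span]
      refine Submodule.span_mono (fun x hx => ?_) hb
      exact ⟨⟨x, Submodule.mem_sup_right (Submodule.subset_span hx)⟩, hx, rfl⟩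
    obtain ⟨b', hb', rfl⟩ := hb'
    refine ⟨b', hb', (Submodule.Quotient.eq Np).2 ?_⟩
    show (b' : M) - m ∈ N
    rw [← hab]
    simpa using neg_mem ha
  haveI := projective_of_flat_of_countablyGenerated
    (isMittagLeffler_of_faithfullyFlat S (isMittagLeffler_of_projective (R := S) (M := S ⊗[R] (N' ⧸ Np)))) hVc
  obtain ⟨σ, hσ⟩ := Module.projective_lifting_property Np.mkQ LinearMap.id Np.mkQ_surjective
  let L : Submodule R M := LinearMap.range (N'.subtype ∘ₗ σ)
  have hdisj : Disjoint N L := by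
    rw [Submodule.disjoint_def]
    rintro _ hx ⟨v, rfl⟩
    have : v = 0 := by
      refine (LinearMap.congr_fun hσ v).symm.trans ?_
      exact (Submodule.Quotient.mk_eq_zero Np).2 hx
    rw [this, map_zero]
  have hLc : IsCountablyGenerated R L := by
    obtain ⟨t, ht, htspan⟩ := hVc
    refine ⟨(N'.subtype ∘ₗ σ).rangeRestrict '' t, ht.image _, ?_⟩
    rw [← Submodule.map_span, htspan, Submodule.map_top, LinearMap.range_rangeRestrict]
  have hnew : (⟨J', insert L 𝓛⟩ : Set ι × Set (Submodule R M)) ∈ C := by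
    refine ⟨?_, ?_, ?_⟩
    · show (sSup (insert L 𝓛)).baseChange S = _
      rw [sSup_insert, ← hW']
      congr 1
      refine le_antisymm (sup_le ?_ le_sup_left) (fun m hm => ?_)
      · rintro _ ⟨v, rfl⟩
        exact (σ v).2
      · have h1 : (m - (σ (Np.mkQ ⟨m, hm⟩) : M)) ∈ N := by
          have := (Submodule.Quotient.eq Np).1 (LinearMap.congr_fun hσ (Np.mkQ ⟨m, hm⟩)).symm
          exact this
        rw [← add_sub_cancel (σ (Np.mkQ ⟨m, hm⟩) : M) m]
        exact add_mem (Submodule.mem_sup_left ⟨_, rfl⟩) (Submodule.mem_sup_right h1)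
    · intro a ha
      rcases eq_or_ne a L with rfl | haL
      · refine hdisj.symm.mono_right (sSup_le_sSup ?_)
        rintro b ⟨hb | hb, hbL⟩
        · exact absurd hb hbL
        · exact hb
      have ha' : a ∈ 𝓛 := ha.resolve_left haL
      have h2 : Disjoint (a ⊔ sSup (𝓛 \ {a})) L :=
        hdisj.mono_left (sup_le (le_sSup ha') (sSup_le_sSup Set.sdiff_subset))
      refine (Disjoint.disjoint_sup_right_of_disjoint_sup_left (hind ha') h2).mono_right (sSup_le ?_)
      rintro b ⟨rfl | hb, hba⟩
      · exact le_sup_right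
      · exact le_sup_of_le_left (le_sSup ⟨hb, hba⟩)
    · rintro L' (rfl | hL')
      · exact hLc
      · exact hcount L' hL'
  have hle : (⟨J', insert L 𝓛⟩ : Set ι × Set (Submodule R M)) ≤ ⟨J, 𝓛⟩ :=
    hmax hnew ⟨Set.subset_union_left, Set.subset_insert _ _⟩
  exact hi₀ (hle.1 (Or.inr hi₀I))

end Projective

theorem projective_of_faithfullyFlat [Module.FaithfullyFlat R S]
    [Module.Projective S (S ⊗[R] M)] : Module.Projective R M := by
  classical
  obtain ⟨κ, Q, hQ, hQc⟩ := exists_countablyGenerated_decomposition (R := S) (P := S ⊗[R] M)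
  obtain ⟨𝓛, hind, hsup, hc⟩ := exists_decomposition_descent S
    (LinearEquiv.ofBijective (DirectSum.coeLinearMap Q) hQ) hQc
  haveI : Module.Flat R M := Module.Flat.of_flat_tensorProduct R M S
  refine projective_of_internal (isMittagLeffler_of_faithfullyFlat S isMittagLeffler_of_projective)
    (fun L : 𝓛 => (L : Submodule R M))
    (DirectSum.isInternal_submodule_of_iSupIndep_of_iSup_eq_top ((sSupIndep_iff 𝓛).1 hind)
      (by rw [← sSup_eq_iSup', hsup])) fun L => hc L L.2

end Groth.Agent.CAlgML
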