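import Mathlib
import Groth.Agent.CAlgML.ML

/-!
Mittag-Leffler modules under change of rings and tensor products.
-/

namespace Groth.Agent.CAlgML

open TensorProduct CAlg

universe u

variable {R : Type u} [CommRing R] {M N : Type u} [AddCommGroup M] [Module R M]
  [AddCommGroup N] [Module R N]

theorem isMittagLeffler_tensor (hM : IsMittagLeffler R M) (hN : IsMittagLeffler R N) :
    IsMittagLeffler R (M ⊗[R] N) := by
  intro ι T _ _
  refine (injective_iff_map_eq_zero _).2 fun x hx => ?_
  apply (TensorProduct.assoc R M N (∀ i, T i)).injective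
  rw [map_zero]
  have hy : ∀ i, ((LinearMap.proj (R := R) (φ := T) i).lTensor N).lTensor M
      (TensorProduct.assoc R M N (∀ i, T i) x) = 0 := by
    intro i
    have : ∀ z : (M ⊗[R] N) ⊗[R] (∀ i, T i), ((LinearMap.proj (R := R) (φ := T) i).lTensor N).lTensor M
        (TensorProduct.assoc R M N (∀ i, T i) z) = TensorProduct.assoc R M N (T i)
        (piRightHom R R (M ⊗[R] N) T z i) := fun z => by
      induction z with
      | zero => simp
      | add a b ha hb => simp [ha, hb]
      | tmul mn t =>
        induction mn with
        | zero => simp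
        | add a b ha hb =>
          simp only [add_tmul, map_add, ha, hb, Pi.add_apply]
        | tmul m n => simp
    rw [this, hx, Pi.zero_apply, map_zero]
  generalize TensorProduct.assoc R M N (∀ i, T i) x = y at hy ⊢
  obtain ⟨k, m, p, hyp⟩ := TensorProduct.exists_sum_tmul_eq y
  let f : (Fin k → R) →ₗ[R] M := Fintype.linearCombination R m
  let y₁ : (Fin k → R) ⊗[R] (N ⊗[R] (∀ i, T i)) := ∑ j, Pi.single j 1 ⊗ₜ p j
  have hf : f.rTensor _ y₁ = y := by
    simp [hyp, y₁, f, map_sum, Fintype.linearCombination_apply_single]
  obtain ⟨A, _, _, _, g, -, -, hg⟩ := exists_dominating hM f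
  rw [← hf, ← LinearMap.mem_ker, hg, LinearMap.mem_ker]
  apply (TensorProduct.leftComm R A N (∀ i, T i)).injective
  rw [map_zero]
  apply (LinearEquiv.lTensor N (LinearEquiv.ofBijective (piRightHom R R A T)
    piRightHom_bijective_of_finitePresentation)).injective
  rw [map_zero]
  refine hN ι (fun i => A ⊗[R] T i) (funext fun i => ?_)
  rw [map_zero, Pi.zero_apply]
  have key : ∀ z : A ⊗[R] (N ⊗[R] (∀ i, T i)), piRightHom R R N (fun i => A ⊗[R] T i)
      (LinearEquiv.lTensor N (LinearEquiv.ofBijective (piRightHom R R A T)
        piRightHom_bijective_of_finitePresentation) (TensorProduct.leftComm R A N (∀ i, T i) z)) i =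
      TensorProduct.leftComm R A N (T i)
        (((LinearMap.proj (R := R) (φ := T) i).lTensor N).lTensor A z) := fun z => by
    induction z with
    | zero => simp
    | add a b ha hb => simp only [map_add, Pi.add_apply, ha, hb]
    | tmul a w =>
      induction w with
      | zero => simp
      | add c d hc hd => simp only [tmul_add, map_add, Pi.add_apply, hc, hd]
      | tmul n t => simp
  have h1 : f.rTensor (N ⊗[R] T i)
      (((LinearMap.proj (R := R) (φ := T) i).lTensor N).lTensor (Fin k → R) y₁) = 0 := by
    rw [← LinearMap.comp_apply, LinearMap.rTensor_comp_lTensor, ← LinearMap.lTensor_comp_rTensor,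
      LinearMap.comp_apply, hf, hy i]
  rw [← LinearMap.mem_ker, hg, LinearMap.mem_ker] at h1
  rw [key, ← LinearMap.comp_apply (g := g.rTensor _), LinearMap.lTensor_comp_rTensor,
    ← LinearMap.rTensor_comp_lTensor, LinearMap.comp_apply, h1, map_zero]

section Restrict

variable (S : Type u) [CommRing S] [Algebra R S] {L : Type u} [AddCommGroup L] [Module S L]
  [Module R L] [IsScalarTower R S L]

/-- Restriction of scalars preserves Mittag-Leffler when `L ⊗_S ψ` is injective for the comparison
maps `ψ : S ⊗ ∏ Tᵢ → ∏ (S ⊗ Tᵢ)`. -/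
theorem isMittagLeffler_restrictScalars (hL : IsMittagLeffler S L)
    (h : ∀ (ι : Type u) (T : ι → Type u) [∀ i, AddCommGroup (T i)] [∀ i, Module R (T i)],
      Function.Injective ((piRightHom R S S T).lTensor L)) : IsMittagLeffler R L := by
  intro ι T _ _
  refine (injective_iff_map_eq_zero _).2 fun x hx => ?_
  obtain ⟨y, rfl⟩ := (AlgebraTensorModule.cancelBaseChange R S S L (∀ i, T i)).surjective x
  suffices y = 0 by rw [this, map_zero]
  apply h ι T
  rw [map_zero]
  refine hL ι (fun i => S ⊗[R] T i) (funext fun i => ?_)
  rw [map_zero, Pi.zero_apply]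
  apply (AlgebraTensorModule.cancelBaseChange R S S L (T i)).injective
  rw [map_zero]
  have key : ∀ z : L ⊗[S] (S ⊗[R] (∀ i, T i)),
      AlgebraTensorModule.cancelBaseChange R S S L (T i)
        (piRightHom S S L (fun i => S ⊗[R] T i) ((piRightHom R S S T).lTensor L z) i) =
      piRightHom R R L T (AlgebraTensorModule.cancelBaseChange R S S L (∀ i, T i) z) i := fun z => by
    induction z with
    | zero => simp
    | add a b ha hb => simp only [map_add, Pi.add_apply, ha, hb]
    | tmul l w =>
      induction w with
      | zero => simp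
      | add c d hc hd => simp only [tmul_add, map_add, Pi.add_apply, hc, hd]
      | tmul s t => simp
  rw [key, hx]
  rfl

theorem isMittagLeffler_restrictScalars_of_flat (hS : IsMittagLeffler R S) [Module.Flat S L]
    (hL : IsMittagLeffler S L) : IsMittagLeffler R L :=
  isMittagLeffler_restrictScalars S hL fun ι T _ _ =>
    Module.Flat.lTensor_preserves_injective_linearMap _ fun a b hab =>
      hS ι T (funext fun i => congrFun hab i)

theorem isMittagLeffler_restrictScalars_of_finitePresentation [Module.FinitePresentation R S]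
    (hL : IsMittagLeffler S L) : IsMittagLeffler R L :=
  isMittagLeffler_restrictScalars S hL fun ι T _ _ => by
    have hb : Function.Bijective (piRightHom R S S T) := by
      have := piRightHom_bijective_of_finitePresentation (R := R) (M := S) (Q := T)
      exact ⟨fun a b hab => this.1 (funext fun i => congrFun hab i), fun y => by
        obtain ⟨z, hz⟩ := this.2 y
        exact ⟨z, funext fun i => congrFun hz i⟩⟩
    exact ((LinearEquiv.ofBijective _ hb).lTensor L).injective

theorem isMittagLeffler_baseChange (hM : IsMittagLeffler R M) :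
    IsMittagLeffler S (S ⊗[R] M) := by
  intro ι T _ _
  letI : ∀ i, Module R (T i) := fun i => Module.compHom (T i) (algebraMap R S)
  haveI : ∀ i, IsScalarTower R S (T i) := fun i => IsScalarTower.of_algebraMap_smul fun r x => rfl
  refine (injective_iff_map_eq_zero _).2 fun x hx => ?_
  let Φ : ∀ (P : Type u) [AddCommGroup P] [Module S P] [Module R P] [IsScalarTower R S P],
      (S ⊗[R] M) ⊗[S] P ≃+ M ⊗[R] P := fun P _ _ _ _ =>
    ((TensorProduct.comm S (S ⊗[R] M) P).toAddEquiv.trans
      (AlgebraTensorModule.cancelBaseChange R S S P M).toAddEquiv).trans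
      (TensorProduct.comm R P M).toAddEquiv
  apply (Φ (∀ i, T i)).injective
  rw [map_zero]
  refine hM ι T (funext fun i => ?_)
  rw [map_zero, Pi.zero_apply]
  have key : ∀ z : (S ⊗[R] M) ⊗[S] (∀ i, T i),
      piRightHom R R M T (Φ (∀ i, T i) z) i = Φ (T i) (piRightHom S S (S ⊗[R] M) T z i) := fun z => by
    induction z with
    | zero => simp
    | add a b ha hb => simp only [map_add, Pi.add_apply, ha, hb]
    | tmul w t =>
      induction w with
      | zero => simp
      | add c d hc hd => simp only [add_tmul, map_add, Pi.add_apply, hc, hd]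
      | tmul s m => simp [Φ]
  rw [key, hx, Pi.zero_apply, map_zero]

theorem isMittagLeffler_extend_of_surjective (hsurj : Function.Surjective (algebraMap R S))
    (hL : IsMittagLeffler R L) : IsMittagLeffler S L := by
  intro ι T _ _
  letI : ∀ i, Module R (T i) := fun i => Module.compHom (T i) (algebraMap R S)
  haveI : ∀ i, IsScalarTower R S (T i) := fun i => IsScalarTower.of_algebraMap_smul fun r x => rfl
  haveI : ∀ (P : Type u) [AddCommGroup P] [Module S P] [Module R P] [IsScalarTower R S P],
      TensorProduct.CompatibleSMul R S L P := fun P _ _ _ _ => ⟨fun s l p => by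
    obtain ⟨r, rfl⟩ := hsurj s
    rw [algebraMap_smul, algebraMap_smul, smul_tmul]⟩
  let e : ∀ (P : Type u) [AddCommGroup P] [Module S P] [Module R P] [IsScalarTower R S P],
      L ⊗[S] P ≃ₗ[R] L ⊗[R] P := fun P _ _ _ _ => TensorProduct.equivOfCompatibleSMul R S R L P
  refine (injective_iff_map_eq_zero _).2 fun x hx => ?_
  apply (e (∀ i, T i)).injective
  rw [map_zero]
  refine hL ι T (funext fun i => ?_)
  rw [map_zero, Pi.zero_apply]
  have key : ∀ z : L ⊗[S] (∀ i, T i),
      piRightHom R R L T (e (∀ i, T i) z) i = e (T i) (piRightHom S S L T z i) := fun z => by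
    induction z with
    | zero => simp
    | add a b ha hb => simp only [map_add, Pi.add_apply, ha, hb]
    | tmul l t =>
      show piRightHom R R L T (l ⊗ₜ[R] t) i = e (T i) (piRightHom S S L T (l ⊗ₜ[S] t) i)
      rw [piRightHom_tmul, piRightHom_tmul]
      rfl
  rw [key, hx, Pi.zero_apply, map_zero]

end Restrict

end Groth.Agent.CAlgML
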