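import Mathlib
import Groth.Agent.CAlgML.ML

/-!
Directed colimits of modules, finitely presented sources and Mittag-Leffler.
-/

namespace Groth.Agent.CAlgML

open TensorProduct CAlg

universe u

variable {R : Type u} [CommRing R] {ι : Type u} [Preorder ι] [IsDirectedOrder ι] [DecidableEq ι]
  {G : ι → Type u} [∀ i, AddCommGroup (G i)] [∀ i, Module R (G i)]
  {f : ∀ i j, i ≤ j → G i →ₗ[R] G j} [DirectedSystem G fun i j h => f i j h]

theorem exists_rTensor_of [Nonempty ι] (N : Type u) [AddCommGroup N] [Module R N]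
    (x : Module.DirectLimit G f ⊗[R] N) :
    ∃ (i : ι) (y : G i ⊗[R] N), (Module.DirectLimit.of R ι G f i).rTensor N y = x := by
  obtain ⟨i, y, hy⟩ := Module.DirectLimit.exists_of (directLimitLeft f N x)
  exact ⟨i, y, (directLimitLeft f N).injective (by rw [directLimitLeft_rTensor_of, hy])⟩

theorem exists_rTensor_eq_zero (N : Type u) [AddCommGroup N] [Module R N] {i : ι} (y : G i ⊗[R] N)
    (h : (Module.DirectLimit.of R ι G f i).rTensor N y = 0) :
    ∃ (j : ι) (hij : i ≤ j), (f i j hij).rTensor N y = 0 := by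
  have h1 := congrArg (directLimitLeft f N) h
  rw [directLimitLeft_rTensor_of, map_zero] at h1
  exact Module.DirectLimit.of.zero_exact h1

omit [IsDirectedOrder ι] in
theorem of_comp_transition {i j : ι} (hij : i ≤ j) :
    Module.DirectLimit.of R ι G f j ∘ₗ f i j hij = Module.DirectLimit.of R ι G f i :=
  LinearMap.ext fun _ => Module.DirectLimit.of_f

omit [IsDirectedOrder ι] [DecidableEq ι] in
theorem transition_comp {i j k : ι} (hij : i ≤ j) (hjk : j ≤ k) :
    f j k hjk ∘ₗ f i j hij = f i k (hij.trans hjk) :=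
  LinearMap.ext fun x => DirectedSystem.map_map' (f := f) hij hjk x

theorem exists_le_forall_fin : ∀ (n : ℕ) (g : Fin n → ι) (i₀ : ι), ∃ i, i₀ ≤ i ∧ ∀ k, g k ≤ i
  | 0, _, i₀ => ⟨i₀, le_rfl, fun k => k.elim0⟩
  | n + 1, g, i₀ => by
    obtain ⟨i, hi, h⟩ := exists_le_forall_fin n (fun k => g k.succ) i₀
    obtain ⟨j, hij, hgj⟩ := exists_ge_ge i (g 0)
    exact ⟨j, hi.trans hij, fun k => Fin.cases hgj (fun k => (h k).trans hij) k⟩

theorem exists_transition_eq_zero {P : Type u} [AddCommGroup P] [Module R P] [Module.Finite R P]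
    {i : ι} (a : P →ₗ[R] G i) (h : Module.DirectLimit.of R ι G f i ∘ₗ a = 0) :
    ∃ (j : ι) (hij : i ≤ j), f i j hij ∘ₗ a = 0 := by
  obtain ⟨n, π, hπ⟩ := Module.Finite.exists_fin' R P
  choose j hij hj using fun k : Fin n =>
    Module.DirectLimit.of.zero_exact (LinearMap.congr_fun h (π (Pi.single k 1)))
  obtain ⟨l, hil, hl⟩ := exists_le_forall_fin n j i
  refine ⟨l, hil, ?_⟩
  have h2 : (f i l hil ∘ₗ a) ∘ₗ π = 0 := by
    refine (Pi.basisFun R (Fin n)).ext fun k => ?_
    rw [Pi.basisFun_apply, LinearMap.comp_apply, LinearMap.comp_apply, LinearMap.zero_apply,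
      ← transition_comp (f := f) (hij k) (hl k), LinearMap.comp_apply, hj k, map_zero]
  exact LinearMap.ext fun p => by
    obtain ⟨v, rfl⟩ := hπ p
    exact LinearMap.congr_fun h2 v

theorem exists_lift_finitePresentation [Nonempty ι] {P : Type u} [AddCommGroup P] [Module R P]
    [Module.FinitePresentation R P] (φ : P →ₗ[R] Module.DirectLimit G f) :
    ∃ (i : ι) (a : P →ₗ[R] G i), Module.DirectLimit.of R ι G f i ∘ₗ a = φ := by
  obtain ⟨n, m, π, r, hπ, hr⟩ := Module.FinitePresentation.exists_fin' R P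
  choose i x hx using fun k : Fin n => Module.DirectLimit.exists_of (φ (π (Pi.single k 1)))
  obtain ⟨l, -, hl⟩ := exists_le_forall_fin n i (Classical.arbitrary ι)
  let a₀ : (Fin n → R) →ₗ[R] G l := Fintype.linearCombination R fun k => f (i k) l (hl k) (x k)
  have ha₀ : Module.DirectLimit.of R ι G f l ∘ₗ a₀ = φ ∘ₗ π := by
    refine (Pi.basisFun R (Fin n)).ext fun k => ?_
    rw [Pi.basisFun_apply, LinearMap.comp_apply, LinearMap.comp_apply,
      Fintype.linearCombination_apply_single, one_smul, Module.DirectLimit.of_f, hx]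
  obtain ⟨j, hlj, hj⟩ := exists_transition_eq_zero (a₀ ∘ₗ r) (by
    rw [← LinearMap.comp_assoc, ha₀, LinearMap.comp_assoc, hr.linearMap_comp_eq_zero,
      LinearMap.comp_zero])
  have hk : LinearMap.ker π ≤ LinearMap.ker (f l j hlj ∘ₗ a₀) := by
    rw [hr.linearMap_ker_eq]
    rintro _ ⟨w, rfl⟩
    exact LinearMap.congr_fun hj w
  refine ⟨j, (LinearMap.ker π).liftQ _ hk ∘ₗ (π.quotKerEquivOfSurjective hπ).symm.toLinearMap, ?_⟩
  refine LinearMap.ext fun p => ?_
  obtain ⟨v, rfl⟩ := hπ p
  have : (π.quotKerEquivOfSurjective hπ).symm (π v) = Submodule.Quotient.mk v := by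
    rw [LinearEquiv.symm_apply_eq]; rfl
  simp only [LinearMap.comp_apply, LinearEquiv.coe_coe, this, Submodule.liftQ_apply]
  rw [← LinearMap.comp_apply, of_comp_transition]
  exact LinearMap.congr_fun ha₀ v

theorem injective_rTensor_of {i : ι} (N : Type u) [AddCommGroup N] [Module R N]
    (h : ∀ j (hij : i ≤ j), Function.Injective ((f i j hij).rTensor N)) :
    Function.Injective ((Module.DirectLimit.of R ι G f i).rTensor N) := by
  refine (injective_iff_map_eq_zero _).2 fun y hy => ?_
  obtain ⟨j, hij, hj⟩ := exists_rTensor_eq_zero N y hy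
  exact h j hij (by rw [hj, map_zero])

theorem isMittagLeffler_directLimit_of_injective
    (hf : ∀ (i j) (h : i ≤ j) (N : Type u) [AddCommGroup N] [Module R N],
      Function.Injective ((f i j h).rTensor N))
    (hG : ∀ i, IsMittagLeffler R (G i)) : IsMittagLeffler R (Module.DirectLimit G f) := by
  intro κ T _ _
  refine (injective_iff_map_eq_zero _).2 fun x hx => ?_
  rcases isEmpty_or_nonempty ι with hι | hι
  · have : Subsingleton (Module.DirectLimit G f) := inferInstance
    exact Subsingleton.elim x 0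
  obtain ⟨i, y, rfl⟩ := exists_rTensor_of (∀ j, T j) x
  have : y = 0 := hG i κ T (funext fun j => by
    apply injective_rTensor_of (f := f) (T j) fun l hil => hf i l hil (T j)
    rw [← piRightHom_rTensor, hx]; simp)
  rw [this, map_zero]

theorem isMittagLeffler_directLimit_iff [Nonempty ι] [∀ i, Module.FinitePresentation R (G i)]
    (dom : ∀ {i j k : ι} (hij : i ≤ j) (hik : i ≤ k),
      (∀ (N : Type u) [AddCommGroup N] [Module R N],
        LinearMap.ker ((f i k hik).rTensor N) ≤ LinearMap.ker ((f i j hij).rTensor N)) ↔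
      ∃ h : G k →ₗ[R] G j, f i j hij = h ∘ₗ f i k hik) :
    IsMittagLeffler R (Module.DirectLimit G f) ↔
      ∀ i, ∃ (j : ι) (hij : i ≤ j), ∀ (k : ι) (hik : i ≤ k),
        ∃ h : G k →ₗ[R] G j, f i j hij = h ∘ₗ f i k hik := by
  refine ⟨fun hM i => ?_, fun H => ?_⟩
  · obtain ⟨Q, _, _, _, g, h, hgh, hker⟩ := exists_dominating hM (Module.DirectLimit.of R ι G f i)
    obtain ⟨l, a, ha⟩ := exists_lift_finitePresentation h
    obtain ⟨l', hil', hll'⟩ := exists_ge_ge i l
    obtain ⟨j, hl'j, hj⟩ := exists_transition_eq_zero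
      (f l l' hll' ∘ₗ a ∘ₗ g - f i l' hil') (by
        rw [LinearMap.comp_sub, of_comp_transition, ← LinearMap.comp_assoc, of_comp_transition,
          ← LinearMap.comp_assoc, ha, ← hgh, sub_self])
    refine ⟨j, hil'.trans hl'j, fun k hik => (dom _ hik).1 fun N _ _ y hy => ?_⟩
    rw [LinearMap.comp_sub, transition_comp, sub_eq_zero, ← LinearMap.comp_assoc, transition_comp] at hj
    rw [LinearMap.mem_ker] at hy ⊢
    have h0 : y ∈ LinearMap.ker ((Module.DirectLimit.of R ι G f i).rTensor N) := by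
      rw [LinearMap.mem_ker, ← of_comp_transition (f := f) hik, LinearMap.rTensor_comp_apply, hy,
        map_zero]
    rw [hker, LinearMap.mem_ker] at h0
    rw [← hj, ← LinearMap.comp_assoc, LinearMap.rTensor_comp_apply, h0, map_zero]
  · refine isMittagLeffler_of_dominating fun n φ => ?_
    obtain ⟨i, a, rfl⟩ := exists_lift_finitePresentation φ
    obtain ⟨j, hij, hj⟩ := H i
    refine ⟨G j, inferInstance, inferInstance, inferInstance, f i j hij ∘ₗ a, fun N _ _ => ?_⟩
    ext y
    simp only [LinearMap.mem_ker, LinearMap.rTensor_comp_apply]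
    refine ⟨fun hy => ?_, fun hy => ?_⟩
    · obtain ⟨k, hik, hk⟩ := exists_rTensor_eq_zero N _ hy
      obtain ⟨h, hh⟩ := hj k hik
      rw [hh, LinearMap.rTensor_comp_apply, hk, map_zero]
    · rw [← of_comp_transition (f := f) hij, LinearMap.rTensor_comp_apply, hy, map_zero]

end Groth.Agent.CAlgML
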